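import Cfsg.Agent.H36.M12.Odd
import Cfsg.Agent.H994.TwoGen.M12
import Mathlib
import Cfsg.Agent.Prune
set_option linter.all false

section
prune_inst 0x7fffebffbbfcfddfffff7e7fafbedffdffbfbfffe6fff9cbffe0ebffdbffdf82cfe5fbaf8feb91fe5ff7eab458fc7b53fdffffffeb6bd87ffffd1ff45ffbffcffdf7bd0d51debcb40fbc6fffe3f0778e7f3fffffffffffffffffffffffffffbeffffffffffff

-- part: H36/M12/Fam
section
prune_inst 0x14004402000000008180504100020040400019000234001d14002400207d3012001070146e01a000154aa60204ac02000000009425000002e008a0040010020842b22e21010bd0431000180f887100000000000000000000000000000041000000000000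
set_option linter.all false
open scoped Cfsg.Agent.FastGrp
private noncomputable def lq26f12eb2bb {T : Sort _} (f :
    type_of% (@_root_.List.cons.{0}) →
    type_of% (@_root_.List.nil.{0}) → T) : T :=
  f (@_root_.List.cons.{0}) (@_root_.List.nil.{0})

/-!
# The vectors `W i j` (helper36)

From a vector `v` fixed by the stabiliser of the points `9, 16` of the dodecad: `W i j` is the image of `v` under an element
mapping `9, 16` to the points number `i, j`.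
-/

set_option autoImplicit false
set_option maxRecDepth 100000

namespace Cfsg.Agent.H36.M12

open Module Cfsg Cfsg.Agent.CoThreeStd.MTwelve Cfsg.Agent.SporadicStructure.M11InvPerms

/-! ### the points of the dodecad -/

/-- numbers of the points of the dodecad -/
def dl : List ℕ := [0, 1, 2, 3, 4, 6, 8, 9, 12, 13, 16, 18]

/-- number of the point `i` -/
def pn (i : Fin 12) : ℕ := dl.getD i 0

/-- the point `i` -/
def pt (i : Fin 12) : GolayPt := dec (pn i)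

theorem pn_lt : ∀ i, pn i < 24 := by decide +kernel
theorem pn_inj : ∀ i j, pn i = pn j → i = j := by decide +kernel
theorem enc_pt : ∀ i, enc (pt i) = pn i := by decide +kernel
theorem pt_mem : ∀ i, pt i ∈ dd := by decide +kernel
theorem pt_surj : ∀ x ∈ dd, ∃ i, pt i = x := by decide +kernel

theorem pt_inj : Function.Injective pt := by
  intro i j h
  apply pn_inj
  rw [← enc_pt, ← enc_pt, h]

/-- the numbering of the dodecad -/
noncomputable def e12 : Fin 12 ≃ {x // x ∈ dd} :=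
  Equiv.ofBijective (fun i => ⟨pt i, pt_mem i⟩)
    ⟨fun _ _ h => pt_inj (congrArg Subtype.val h), fun ⟨x, hx⟩ => by
      obtain ⟨i, hi⟩ := pt_surj x hx
      exact ⟨i, Subtype.ext hi⟩⟩

theorem mem_iff (g : Spor.M12) (x : GolayPt) : g.1 x ∈ dd ↔ x ∈ dd :=
  ⟨fun h => by
    by_contra hx
    exact CoThreeStd.OutAut.ndd_of_mem g hx h, fun h => CoThreeStd.OutAut.dd_of_mem g h⟩

/-- the action on the numbers of the points -/
noncomputable def pm : Spor.M12 →* Equiv.Perm (Fin 12) where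
  toFun g := e12.trans ((g.1.subtypePerm (mem_iff g)).trans e12.symm)
  map_one' := by
    ext i
    simp [Equiv.trans_apply]
  map_mul' g h := by
    apply Equiv.ext
    intro i
    simp only [Equiv.trans_apply, Equiv.Perm.mul_apply, Equiv.apply_symm_apply]
    rfl

theorem pt_pm (g : Spor.M12) (i : Fin 12) : pt (pm g i) = g.1 (pt i) := by
  have h1 : ∀ j, ((e12 j : {x // x ∈ dd}) : GolayPt) = pt j := fun _ => rfl
  rw [← h1, ← h1]
  show ((e12 (e12.symm _) : {x // x ∈ dd}) : GolayPt) = _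
  rw [Equiv.apply_symm_apply]
  rfl

theorem pn_pm (l : List ℕ) (i : Fin 12) : pn (pm (wd l) i) = act l (pn i) := by
  rw [← enc_pt, pt_pm, pt, (act_spec l (pn i) (pn_lt i)).1]

/-! ### words -/

/-- the word of `X` -/
def wX : List ℕ := [2,1,5,4,3,5,0,5,1]
/-- the word of `Y` -/
def wY : List ℕ := [4,5,4,1,5,4]

theorem wX_eq : ((wd wX).1 : Equiv.Perm GolayPt) = Cfsg.Agent.H994.TwoGen.M12.X := by
  ext1 z
  have h1 := (act_spec wX (enc z) (enc_lt z)).1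
  rw [dec_enc] at h1
  have h2 : ∀ z, act wX (enc z) = enc (Cfsg.Agent.H994.TwoGen.M12.X z) := by decide +kernel
  rw [← dec_enc ((wd wX).1 z), h1, h2, dec_enc]

theorem wY_eq : ((wd wY).1 : Equiv.Perm GolayPt) = Cfsg.Agent.H994.TwoGen.M12.Y := by
  ext1 z
  have h1 := (act_spec wY (enc z) (enc_lt z)).1
  rw [dec_enc] at h1
  have h2 : ∀ z, act wY (enc z) = enc (Cfsg.Agent.H994.TwoGen.M12.Y z) := by decide +kernel
  rw [← dec_enc ((wd wY).1 z), h1, h2, dec_enc]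

theorem closure_XY : Subgroup.closure ({wd wX, wd wY} : Set Spor.M12) = ⊤ := by
  rw [eq_top_iff]
  intro g _
  have h1 : (Subgroup.closure ({wd wX, wd wY} : Set Spor.M12)).map Spor.M12.subtype =
      Subgroup.closure {Cfsg.Agent.H994.TwoGen.M12.X, Cfsg.Agent.H994.TwoGen.M12.Y} := by
    rw [MonoidHom.map_closure, Set.image_pair, Subgroup.coe_subtype, wX_eq, wY_eq]
  rw [Cfsg.Agent.H994.TwoGen.M12.closure_eq] at h1
  have h2 : (g : Equiv.Perm GolayPt) ∈ (Subgroup.closure ({wd wX, wd wY} : Set Spor.M12)).map Spor.M12.subtype := by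
    rw [h1]; exact g.2
  obtain ⟨a, ha, hag⟩ := h2
  rwa [← Subtype.ext hag]

/-- words of the generators of the stabiliser -/
def sw : ℕ → List ℕ
  | 0 => wi2
  | 1 => wi3
  | 2 => ws
  | _ => wr

/-- words mapping `9, 16` to the given points -/
def tR : List (List (List ℕ)) :=
  (beta% delta% lq26f12eb2bb fun a b =>
 (a (a b<|a (a 3<|a 5<|a 1<|a 5<|b)<|a (a 1<|a 2<|a 1<|b)<|a (a 0<|a 5<|a 4<|a 5<|b)<|a (a 1<|a 2<|a 5<|b)<|a b<|a (a 1<|a 5<|a 0<|b)<|a b<|a (a 4<|a 3<|b)<|a (a 4<|a 5<|a 0<|b)<|a b<|a b<|a (a 4<|a 2<|a 5<|b)<|a (a 0<|a 5<|a 1<|a 2<|b)<|a b<|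
 a b<|a (a 3<|a 1<|b)<|a b<|a (a 3<|a 5<|b)<|b)<|a (a (a 2<|a 5<|a 2<|a 3<|a 0<|b)<|a b<|a (a 5<|a 4<|a 5<|b)<|a (a 1<|a 2<|a 1<|a 0<|b)<|a (a 4<|a 3<|a 0<|b)<|a b<|a (a 3<|a 0<|a 5<|b)<|a b<|a (a 0<|a 5<|a 3<|a 0<|b)<|a (a 5<|a 1<|a 2<|b)<|a b<|
 a b<|a (a 3<|a 1<|a 0<|b)<|a (a 5<|a 3<|a 2<|b)<|a b<|a b<|a (a 2<|a 1<|a 5<|a 2<|b)<|a b<|a (a 1<|a 0<|a 5<|a 0<|b)<|b)<|a (a (a 2<|a 1<|b)<|a (a 5<|a 1<|a 0<|a 5<|b)<|a b<|a (a 2<|a 5<|a 1<|a 5<|b)<|a (a 3<|a 5<|a 1<|b)<|a b<|a (a 3<|b)<|a b<|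
 a (a 3<|a 0<|a 5<|a 3<|b)<|a (a 4<|a 3<|a 1<|b)<|a b<|a b<|a (a 3<|a 1<|a 5<|b)<|a (a 2<|a 5<|b)<|a b<|a b<|a (a 5<|a 0<|b)<|a b<|a (a 4<|a 1<|a 2<|a 5<|b)<|b)<|a (a (a 1<|a 5<|a 4<|a 5<|b)<|a (a 2<|a 1<|a 0<|b)<|a (a 0<|a 5<|a 0<|a 5<|a 1<|b)<|a b<|
 a (a 3<|a 5<|a 3<|b)<|a b<|a (a 1<|a 2<|a 1<|a 5<|a 2<|b)<|a b<|a (a 1<|a 5<|a 1<|a 2<|b)<|a (a 2<|a 0<|a 5<|b)<|a b<|a b<|a (a 0<|a 5<|a 0<|b)<|a (a 3<|a 5<|a 2<|a 1<|b)<|a b<|a b<|a (a 3<|a 1<|a 0<|a 5<|b)<|a b<|a (a 3<|a 0<|b)<|b)<|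
 a (a (a 1<|a 2<|a 5<|a 2<|b)<|a (a 2<|a 3<|a 0<|b)<|a (a 1<|a 0<|a 5<|a 1<|b)<|a (a 1<|a 5<|a 3<|b)<|a b<|a b<|a (a 1<|a 5<|a 3<|a 1<|a 5<|b)<|a b<|a (a 0<|a 5<|a 1<|a 5<|b)<|a (a 3<|a 5<|a 4<|a 5<|b)<|a b<|a b<|a (a 1<|a 5<|a 4<|a 3<|a 5<|b)<|
 a (a 2<|a 0<|a 5<|a 0<|b)<|a b<|a b<|a (a 0<|a 5<|b)<|a b<|a (a 1<|a 0<|b)<|b)<|a b<|a (a (a 1<|a 5<|a 2<|a 0<|b)<|a (a 2<|a 3<|a 5<|b)<|a (a 3<|a 2<|b)<|a (a 1<|a 2<|a 1<|a 5<|b)<|a (a 3<|a 2<|a 1<|a 5<|b)<|a b<|a b<|a b<|a (a 1<|a 2<|b)<|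
 a (a 2<|a 3<|a 1<|b)<|a b<|a b<|a (a 1<|a 2<|a 5<|a 1<|b)<|a (a 4<|a 5<|b)<|a b<|a b<|a (a 0<|a 5<|a 0<|a 5<|b)<|a b<|a (a 4<|a 5<|a 1<|a 5<|b)<|b)<|a b<|a (a (a 2<|a 3<|b)<|a (a 1<|a 5<|a 2<|a 3<|b)<|a (a 1<|a 0<|a 5<|a 3<|b)<|a (a 1<|a 5<|a 1<|b)<|
 a (a 5<|a 1<|a 5<|b)<|a b<|a (a 1<|b)<|a b<|a b<|a (a 2<|a 5<|a 0<|b)<|a b<|a b<|a (a 5<|b)<|a (a 2<|a 3<|a 1<|a 5<|b)<|a b<|a b<|a (a 3<|a 1<|a 5<|a 0<|b)<|a b<|a (a 3<|a 4<|a 2<|a 5<|b)<|b)<|a (a (a 0<|a 5<|a 3<|b)<|a (a 5<|a 1<|b)<|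
 a (a 1<|a 2<|a 3<|b)<|a (a 3<|a 2<|a 5<|b)<|a (a 2<|a 3<|a 4<|a 5<|b)<|a b<|a (a 3<|a 5<|a 0<|b)<|a b<|a (a 3<|a 2<|a 1<|b)<|a b<|a b<|a b<|a (a 0<|a 5<|a 3<|a 1<|a 5<|b)<|a (a 1<|a 5<|a 1<|a 5<|b)<|a b<|a b<|a b<|a b<|
 a (a 1<|a 5<|b)<|b)<|a b<|a b<|a (a (a 2<|a 1<|a 0<|a 5<|b)<|a (a 3<|a 1<|a 2<|a 0<|b)<|a (a 3<|a 1<|a 5<|a 2<|b)<|a (a 4<|a 5<|a 3<|b)<|a (a 2<|a 5<|a 2<|a 1<|b)<|a b<|a (a 2<|a 0<|a 5<|a 1<|b)<|a b<|a (a 5<|a 2<|b)<|a (a 1<|a 2<|a 5<|a 4<|a 5<|b)<|a b<|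
 a b<|a b<|a (a 2<|a 0<|b)<|a b<|a b<|a (a 1<|a 5<|a 2<|a 3<|a 0<|b)<|a b<|a (a 2<|a 5<|a 3<|b)<|b)<|a (a (a 0<|a 5<|a 1<|b)<|a (a 5<|a 3<|b)<|a (a 2<|a 5<|a 2<|b)<|a (a 5<|a 2<|a 1<|b)<|a (a 3<|a 2<|a 1<|a 0<|b)<|a b<|a (a 1<|a 0<|a 5<|b)<|a b<|
 a (a 5<|a 4<|a 3<|a 1<|b)<|a (a 1<|a 0<|a 5<|a 1<|a 5<|b)<|a b<|a b<|a (a 0<|b)<|a b<|a b<|a b<|a (a 5<|a 3<|a 1<|a 5<|b)<|a b<|a (a 3<|a 0<|a 5<|a 0<|b)<|b)<|a b<|a b<|a (a (a 3<|a 1<|a 2<|b)<|a (a 2<|a 1<|a 5<|b)<|a (a 5<|a 2<|a 0<|b)<|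
 a (a 3<|a 4<|a 5<|b)<|a (a 0<|a 5<|a 2<|b)<|a b<|a (a 2<|a 0<|a 5<|a 3<|b)<|a b<|a (a 1<|a 2<|a 3<|a 1<|b)<|a (a 2<|b)<|a b<|a b<|a (a 1<|a 5<|a 4<|a 3<|a 0<|b)<|a (a 3<|a 1<|a 2<|a 1<|a 5<|b)<|a b<|a b<|a b<|a b<|a (a 2<|a 5<|a 1<|b)<|b)<|
 a b<|a (a (a 3<|a 5<|a 2<|b)<|a (a 4<|a 1<|a 5<|a 3<|b)<|a (a 1<|a 2<|a 1<|a 0<|a 5<|b)<|a (a 3<|a 2<|a 0<|b)<|a (a 1<|a 2<|a 0<|b)<|a b<|a (a 5<|a 2<|a 3<|a 0<|b)<|a b<|a (a 2<|a 5<|a 4<|a 5<|b)<|a (a 1<|a 5<|a 2<|b)<|a b<|a b<|a (a 5<|a 0<|a 5<|b)<|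
 a (a 2<|a 3<|a 1<|a 0<|b)<|a b<|a b<|a (a 2<|a 5<|a 1<|a 2<|b)<|a b<|a b<|b)<|b))

/-- the Schreier words of `X` -/
def tSX : List (List (List ℕ)) :=
  (beta% delta% lq26f12eb2bb fun a b =>
 (a (a b<|a (a 1<|a 2<|a 0<|b)<|a (a 2<|a 3<|a 0<|a 3<|a 0<|a 3<|a 0<|a 1<|a 3<|b)<|a (a 3<|a 0<|a 2<|b)<|a (a 3<|a 2<|a 0<|a 3<|a 0<|a 3<|a 0<|b)<|a b<|a (a 1<|a 2<|a 3<|a 0<|a 3<|a 0<|a 3<|a 0<|a 3<|b)<|a b<|a (a 3<|a 0<|a 3<|a 0<|a 2<|a 3<|a 2<|a 0<|b)<|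
 a (a 3<|a 0<|a 3<|a 0<|a 1<|a 3<|a 0<|a 3<|a 3<|b)<|a b<|a b<|a (a 3<|a 0<|a 1<|a 3<|a 0<|a 3<|a 0<|a 3<|b)<|a (a 3<|a 3<|a 2<|a 0<|a 3<|a 0<|b)<|a b<|a b<|a (a 2<|a 0<|a 3<|a 2<|a 0<|b)<|a b<|a (a 0<|a 3<|a 2<|a 3<|a 0<|a 3<|a 0<|a 3<|a 0<|b)<|b)<|
 a (a (a 1<|a 3<|a 0<|a 3<|b)<|a b<|a (a 3<|a 1<|a 0<|a 3<|a 0<|a 3<|a 0<|a 3<|b)<|a (a 0<|a 1<|a 3<|a 0<|a 3<|a 0<|a 3<|a 0<|a 3<|a 3<|b)<|a (a 3<|a 0<|a 3<|a 0<|a 2<|a 3<|a 2<|b)<|a b<|a (a 3<|a 3<|b)<|a b<|a (a 3<|a 1<|a 0<|a 3<|a 0<|a 3<|a 3<|a 0<|a 3<|a 0<|b)<|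
 a (a 3<|a 0<|a 3<|a 0<|a 3<|a 3<|a 0<|a 3<|a 2<|a 3<|b)<|a b<|a b<|a (a 3<|a 0<|a 3<|a 0<|a 2<|a 3<|a 2<|a 0<|b)<|a (a 0<|a 1<|a 3<|a 3<|b)<|a b<|a b<|a (a 2<|a 1<|a 3<|b)<|a b<|a (a 2<|a 0<|a 3<|a 0<|a 3<|a 0<|a 3<|b)<|b)<|
 a (a (a 1<|a 3<|a 2<|a 0<|a 3<|a 0<|a 3<|a 0<|a 2<|a 3<|b)<|a (a 0<|a 3<|a 3<|a 0<|a 3<|a 1<|a 0<|a 3<|b)<|a b<|a (a 3<|a 3<|a 0<|a 3<|a 2<|a 3<|a 0<|a 3<|b)<|a (a 3<|a 3<|a 0<|a 2<|a 3<|a 0<|a 3<|a 0<|a 3<|a 3<|b)<|a b<|a (a 3<|a 0<|a 3<|a 0<|a 3<|a 3<|a 0<|a 3<|a 3<|b)<|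
 a b<|a (a 3<|a 3<|a 0<|b)<|a (a 1<|a 0<|a 3<|a 0<|a 3<|a 0<|a 3<|a 0<|a 3<|b)<|a b<|a b<|a (a 1<|a 2<|a 0<|b)<|a (a 0<|a 3<|a 3<|a 0<|a 3<|a 0<|a 3<|a 3<|a 2<|a 0<|a 3<|b)<|a b<|a b<|a (a 0<|a 3<|a 0<|a 2<|b)<|a b<|
 a (a 0<|a 3<|a 0<|a 2<|a 3<|a 0<|a 3<|a 0<|b)<|b)<|a (a (a 0<|a 3<|a 0<|a 2<|a 3<|a 2<|a 0<|b)<|a (a 3<|a 2<|a 1<|b)<|a (a 0<|a 1<|a 3<|a 0<|a 3<|a 1<|b)<|a b<|a (a 3<|a 0<|a 3<|a 1<|a 0<|b)<|a b<|a (a 0<|a 3<|a 3<|a 0<|a 3<|a 0<|a 2<|a 3<|a 0<|b)<|a b<|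
 a (a 3<|a 0<|a 1<|a 3<|a 0<|a 3<|b)<|a (a 0<|a 3<|a 0<|a 2<|a 3<|a 0<|a 3<|a 0<|b)<|a b<|a b<|a (a 2<|a 3<|a 3<|b)<|a (a 1<|a 3<|a 2<|a 0<|a 3<|a 0<|a 3<|a 0<|a 2<|a 3<|b)<|a b<|a b<|a (a 0<|a 3<|a 3<|a 0<|a 3<|a 1<|a 0<|a 3<|b)<|a b<|
 a (a 1<|a 3<|a 0<|a 3<|a 0<|a 3<|a 0<|b)<|b)<|a (a (a 3<|a 3<|a 0<|a 2<|a 3<|a 0<|a 3<|a 0<|a 3<|a 0<|b)<|a (a 0<|a 3<|a 3<|a 0<|a 3<|a 2<|a 0<|a 3<|b)<|a (a 3<|a 0<|a 3<|a 3<|a 0<|a 3<|a 2<|b)<|a (a 3<|a 3<|a 0<|a 3<|a 1<|a 0<|a 3<|a 0<|a 3<|a 3<|b)<|a b<|a b<|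
 a (a 0<|a 3<|a 0<|a 3<|a 3<|a 2<|a 0<|b)<|a b<|a (a 0<|a 3<|a 1<|a 0<|a 3<|a 0<|a 3<|a 0<|a 2<|a 3<|b)<|a (a 3<|a 1<|a 0<|a 3<|a 0<|a 3<|a 0<|a 3<|b)<|a b<|a b<|a (a 2<|a 0<|a 3<|a 0<|a 3<|a 0<|a 2<|a 3<|a 3<|b)<|a (a 0<|a 3<|a 0<|a 3<|a 0<|a 3<|a 0<|b)<|a b<|
 a b<|a (a 0<|a 3<|a 1<|a 0<|a 3<|a 0<|a 3<|a 0<|a 2<|b)<|a b<|a (a 3<|a 0<|a 3<|a 0<|a 3<|a 3<|a 0<|a 3<|a 2<|a 3<|b)<|b)<|a b<|a (a (a 2<|a 0<|a 3<|a 2<|a 0<|a 3<|a 0<|b)<|a (a 3<|a 3<|a 0<|a 3<|a 0<|a 3<|a 3<|a 2<|a 0<|a 3<|b)<|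
 a (a 3<|a 0<|a 3<|a 0<|a 3<|a 1<|a 0<|b)<|a (a 3<|a 3<|a 0<|a 3<|a 0<|a 2<|a 3<|a 3<|b)<|a (a 1<|a 0<|a 3<|a 3<|a 0<|b)<|a b<|a b<|a b<|a (a 3<|a 0<|a 3<|a 0<|a 3<|a 3<|a 0<|a 3<|a 2<|a 3<|b)<|a (a 0<|a 3<|a 3<|a 2<|a 0<|a 3<|a 3<|b)<|a b<|a b<|
 a (a 0<|a 3<|a 3<|a 0<|a 3<|a 0<|a 3<|a 0<|a 2<|a 3<|b)<|a (a 3<|a 1<|a 0<|a 3<|a 0<|a 3<|a 0<|a 3<|b)<|a b<|a b<|a (a 0<|a 1<|a 3<|a 0<|a 3<|a 1<|b)<|a b<|a (a 3<|a 3<|a 0<|a 3<|a 0<|a 3<|b)<|b)<|a b<|a (a (a 2<|a 0<|a 3<|a 0<|a 3<|a 0<|a 2<|a 3<|a 0<|b)<|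
 a (a 3<|a 3<|a 0<|a 3<|a 1<|a 0<|a 3<|a 0<|a 3<|a 3<|b)<|a (a 0<|a 3<|a 3<|a 0<|a 3<|a 0<|a 3<|a 0<|a 3<|a 1<|b)<|a (a 0<|a 3<|a 3<|a 2<|a 0<|a 3<|a 0<|a 3<|a 0<|a 2<|b)<|a (a 1<|a 2<|a 0<|b)<|a b<|a (a 3<|a 3<|a 0<|a 2<|a 3<|a 0<|a 3<|a 0<|a 3<|a 3<|b)<|a b<|a b<|
 a (a 1<|a 3<|a 0<|a 3<|b)<|a b<|a b<|a (a 1<|a 3<|a 0<|a 3<|a 0<|a 3<|a 0<|a 2<|a 3<|b)<|a (a 0<|a 3<|a 2<|a 3<|a 0<|a 3<|a 0<|a 3<|a 0<|b)<|a b<|a b<|a (a 2<|a 1<|b)<|a b<|a (a 3<|a 0<|a 1<|a 3<|a 0<|a 3<|a 0<|a 3<|b)<|b)<|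
 a (a (a 3<|a 3<|a 0<|a 3<|a 1<|a 0<|a 3<|a 0<|a 3<|a 3<|b)<|a (a 2<|a 3<|a 0<|a 3<|a 0<|a 3<|a 0<|a 1<|a 3<|b)<|a (a 3<|a 1<|a 0<|a 3<|a 0<|a 3<|a 0<|a 2<|a 3<|b)<|a (a 1<|a 3<|a 0<|a 3<|a 3<|a 0<|a 3<|a 3<|b)<|a (a 3<|a 3<|a 2<|a 0<|a 3<|a 0<|a 3<|a 0<|a 3<|b)<|a b<|
 a (a 3<|a 0<|a 1<|a 3<|a 0<|a 3<|a 0<|a 3<|a 0<|b)<|a b<|a (a 1<|a 3<|a 2<|a 0<|a 3<|a 0<|a 3<|a 0<|a 2<|a 3<|b)<|a b<|a b<|a b<|a (a 3<|a 3<|a 2<|a 0<|a 3<|a 3<|b)<|a (a 3<|a 0<|a 3<|a 0<|a 3<|a 1<|a 0<|b)<|a b<|a b<|a (a 1<|a 0<|a 3<|a 3<|a 0<|b)<|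
 a b<|a (a 3<|a 0<|a 3<|a 3<|a 2<|a 0<|a 3<|b)<|b)<|a b<|a b<|a (a (a 0<|a 3<|a 3<|a 0<|a 3<|a 0<|a 2<|a 3<|b)<|a (a 0<|a 1<|a 3<|a 0<|a 3<|a 0<|a 3<|a 3<|b)<|a (a 2<|a 0<|b)<|a (a 3<|a 3<|a 0<|a 3<|a 0<|a 3<|a 0<|b)<|a (a 3<|a 2<|b)<|a b<|
 a (a 1<|a 3<|a 0<|a 3<|a 0<|a 2<|a 3<|b)<|a b<|a (a 0<|a 3<|a 0<|a 3<|a 1<|a 0<|a 3<|a 0<|b)<|a (a 0<|a 3<|a 0<|a 3<|a 0<|a 2<|a 3<|a 2<|b)<|a b<|a b<|a b<|a (a 0<|a 3<|a 3<|a 0<|a 3<|a 1<|a 0<|a 3<|b)<|a b<|a b<|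
 a (a 3<|a 0<|a 3<|a 0<|a 3<|a 2<|a 3<|a 0<|b)<|a b<|a (a 3<|a 3<|a 0<|a 3<|a 1<|a 0<|a 3<|a 0<|a 3<|a 3<|b)<|b)<|a (a (a 2<|a 3<|a 2<|b)<|a (a 0<|a 3<|a 0<|b)<|a (a 0<|a 3<|a 0<|a 3<|a 0<|a 3<|a 2<|a 0<|a 3<|a 3<|b)<|a (a 3<|a 0<|a 3<|a 0<|a 3<|a 3<|a 0<|a 3<|a 2<|a 3<|b)<|
 a (a 1<|a 0<|a 3<|a 0<|a 3<|a 0<|a 2<|a 3<|a 3<|b)<|a b<|a (a 0<|a 3<|a 3<|a 0<|a 3<|a 1<|a 0<|a 3<|b)<|a b<|a (a 1<|a 0<|a 3<|a 0<|a 3<|a 0<|a 3<|a 0<|a 3<|b)<|a (a 0<|a 3<|a 2<|a 3<|a 0<|a 3<|a 0<|b)<|a b<|a b<|a (a 0<|a 3<|a 0<|a 2<|b)<|a b<|a b<|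
 a b<|a (a 1<|a 2<|a 0<|b)<|a b<|a (a 0<|a 3<|a 0<|a 3<|a 2<|a 0<|a 3<|a 0<|b)<|b)<|a b<|a b<|a (a (a 0<|a 3<|a 3<|a 0<|b)<|a (a 1<|a 0<|a 3<|a 3<|a 0<|b)<|a (a 3<|a 3<|a 0<|a 3<|a 2<|a 0<|a 3<|b)<|a (a 0<|a 3<|a 3<|a 2<|a 0<|a 3<|a 0<|a 3<|a 0<|a 3<|b)<|
 a (a 3<|a 3<|a 0<|a 3<|a 0<|a 3<|b)<|a b<|a (a 3<|a 0<|a 3<|a 0<|a 3<|a 3<|a 0<|a 3<|a 3<|b)<|a b<|a (a 3<|a 0<|a 3<|a 0<|a 2<|a 3<|a 2<|b)<|a (a 3<|a 0<|a 3<|a 0<|a 3<|a 3<|a 0<|a 3<|a 0<|b)<|a b<|a b<|a (a 2<|a 0<|a 3<|a 0<|a 3<|a 0<|a 3<|a 3<|a 0<|b)<|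
 a (a 1<|a 0<|a 3<|a 0<|a 3<|b)<|a b<|a b<|a b<|a b<|a (a 3<|a 2<|b)<|b)<|a b<|a (a (a 3<|a 0<|a 3<|a 0<|a 3<|a 3<|a 0<|a 3<|a 0<|b)<|a (a 3<|a 0<|a 3<|a 3<|b)<|a (a 0<|a 3<|a 3<|a 0<|a 3<|a 2<|a 0<|b)<|a (a 3<|a 3<|a 0<|a 3<|a 0<|a 3<|a 0<|a 3<|a 1<|a 0<|b)<|
 a (a 2<|a 0<|a 3<|a 0<|a 3<|a 3<|a 0<|b)<|a b<|a (a 0<|a 3<|a 3<|a 0<|a 3<|a 2<|a 0<|a 3<|b)<|a b<|a (a 3<|a 0<|a 3<|a 0<|a 3<|a 3<|a 0<|a 3<|a 0<|b)<|a (a 3<|a 2<|a 0<|a 3<|a 0<|a 3<|a 0<|a 3<|a 0<|b)<|a b<|a b<|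
 a (a 0<|a 3<|a 0<|a 3<|a 0<|a 3<|a 2<|a 0<|a 3<|a 3<|b)<|a (a 3<|a 1<|b)<|a b<|a b<|a (a 0<|a 2<|a 3<|a 3<|a 0<|b)<|a b<|a b<|b)<|b))

/-- the Schreier words of `Y` -/
def tSY : List (List (List ℕ)) :=
  (beta% delta% lq26f12eb2bb fun a b =>
 (a (a b<|a (a 3<|a 2<|a 0<|a 3<|a 0<|a 3<|a 0<|a 3<|a 3<|a 2<|b)<|a (a 1<|a 3<|a 0<|a 3<|a 0<|a 3<|a 3<|a 0<|a 3<|b)<|a (a 3<|a 3<|a 0<|a 3<|a 0<|a 1<|a 3<|a 0<|b)<|a (a 3<|a 0<|a 3<|a 0<|a 3<|a 2<|a 0<|a 3<|a 3<|b)<|a b<|a (a 0<|a 3<|a 3<|a 0<|a 3<|a 0<|b)<|a b<|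
 a (a 3<|a 1<|a 0<|a 3<|a 0<|a 3<|a 3<|a 0<|a 3<|a 0<|b)<|a (a 3<|a 0<|a 3<|a 0<|a 3<|a 2<|a 0<|a 3<|a 0<|b)<|a b<|a b<|a (a 3<|a 0<|a 3<|a 3<|a 0<|a 3<|a 0<|a 3<|a 3<|b)<|a (a 3<|a 2<|a 0<|a 3<|a 0<|a 3<|a 3<|b)<|a b<|a b<|
 a (a 3<|a 0<|a 3<|a 3<|a 0<|a 3<|a 1<|a 0<|a 3<|b)<|a b<|a (a 0<|a 2<|a 3<|a 3<|b)<|b)<|a (a (a 3<|a 3<|a 0<|a 3<|a 0<|a 2<|a 3<|a 3<|a 0<|b)<|a b<|a (a 0<|a 3<|a 0<|a 3<|a 3<|a 0<|a 3<|a 1<|a 0<|b)<|a (a 1<|a 3<|a 0<|a 3<|a 0<|a 3<|a 1<|b)<|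
 a (a 3<|a 3<|a 0<|a 3<|a 1<|a 0<|a 3<|a 3<|b)<|a b<|a (a 3<|a 0<|a 3<|a 2<|a 3<|a 0<|a 3<|b)<|a b<|a (a 1<|a 0<|a 3<|a 0<|a 3<|a 0<|a 3<|a 3<|a 0<|a 3<|b)<|a (a 3<|a 0<|a 3<|a 1<|a 0<|a 3<|b)<|a b<|a b<|a (a 3<|a 0<|a 3<|a 3<|a 0<|a 3<|a 1<|a 0<|a 3<|a 0<|b)<|
 a (a 0<|a 3<|a 0<|a 1<|a 3<|a 0<|b)<|a b<|a b<|a (a 0<|a 3<|a 3<|a 0<|a 3<|a 2<|a 3<|a 0<|b)<|a b<|a (a 0<|a 3<|a 0<|a 3<|a 3<|a 2<|a 0<|a 3<|b)<|b)<|a (a (a 0<|a 3<|a 3<|a 0<|a 3<|a 3<|a 0<|a 3<|a 3<|b)<|a (a 3<|a 0<|a 3<|a 2<|a 3<|a 0<|a 3<|a 0<|a 3<|a 0<|b)<|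
 a b<|a (a 3<|a 0<|a 3<|a 0<|a 3<|a 0<|a 2<|a 3<|a 2<|a 0<|b)<|a (a 0<|a 3<|a 2<|b)<|a b<|a (a 3<|a 2<|a 0<|a 3<|a 0<|a 3<|a 0<|a 3<|a 0<|b)<|a b<|a (a 3<|a 3<|a 0<|a 3<|a 1<|a 0<|a 3<|a 0<|a 3<|a 0<|b)<|a (a 3<|a 3<|a 0<|b)<|a b<|a b<|
 a (a 3<|a 3<|a 0<|a 3<|a 1<|a 0<|a 3<|b)<|a (a 3<|a 3<|a 0<|a 2<|a 3<|a 0<|a 3<|b)<|a b<|a b<|a (a 3<|a 3<|a 0<|a 3<|a 3<|a 0<|a 3<|b)<|a b<|a (a 3<|a 0<|a 3<|a 1<|a 0<|a 3<|a 0<|b)<|b)<|a (a (a 1<|a 2<|a 3<|a 0<|a 3<|a 0<|a 3<|b)<|a (a 3<|a 2<|a 3<|b)<|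
 a (a 0<|a 3<|a 0<|a 3<|a 0<|a 3<|a 3<|a 2<|a 0<|b)<|a b<|a (a 3<|a 3<|a 0<|a 3<|a 2<|a 0<|a 3<|a 0<|a 3<|a 3<|b)<|a b<|a (a 3<|a 3<|a 2<|a 0<|a 3<|a 0<|a 3<|a 3<|a 0<|b)<|a b<|a (a 1<|a 3<|a 0<|a 3<|a 0<|a 2<|b)<|a (a 0<|a 3<|a 0<|a 3<|a 3<|a 0<|a 3<|a 3<|a 0<|b)<|
 a b<|a b<|a (a 3<|a 2<|a 0<|a 3<|a 0<|a 3<|a 0<|a 2<|a 3<|a 3<|b)<|a (a 3<|a 3<|a 0<|a 3<|a 3<|a 0<|a 3<|a 2<|a 0<|a 3<|b)<|a b<|a b<|a (a 3<|a 3<|a 0<|a 3<|a 0<|a 2<|a 3<|a 0<|b)<|a b<|a (a 3<|a 0<|a 3<|a 3<|a 2<|b)<|b)<|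
 a (a (a 3<|a 0<|a 3<|a 0<|a 3<|a 0<|a 2<|a 3<|b)<|a (a 0<|a 3<|a 2<|a 0<|a 3<|a 0<|a 3<|a 3<|b)<|a (a 3<|a 0<|a 3<|a 0<|a 1<|a 3<|b)<|a (a 3<|a 0<|a 3<|a 2<|a 0<|b)<|a b<|a b<|a (a 1<|a 0<|a 3<|a 0<|a 3<|a 0<|a 3<|a 3<|b)<|a b<|
 a (a 0<|a 3<|a 0<|a 3<|a 0<|a 2<|a 3<|a 0<|a 3<|b)<|a (a 0<|a 3<|a 0<|a 3<|a 3<|a 0<|a 3<|a 0<|a 3<|a 3<|a 2<|b)<|a b<|a b<|a (a 2<|a 0<|a 3<|a 3<|b)<|a (a 3<|a 0<|a 3<|a 3<|a 0<|a 3<|a 3<|a 0<|a 3<|b)<|a b<|a b<|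
 a (a 0<|a 3<|a 0<|a 3<|a 3<|a 0<|a 3<|a 3<|a 0<|a 3<|b)<|a b<|a (a 3<|a 0<|a 3<|a 0<|a 3<|b)<|b)<|a b<|a (a (a 3<|a 2<|a 0<|a 3<|a 3<|b)<|a (a 2<|a 3<|a 2<|b)<|a (a 0<|a 3<|a 1<|a 0<|a 3<|a 0<|a 3<|a 0<|a 2<|b)<|a (a 0<|a 3<|a 0<|a 2<|a 3<|a 0<|a 3<|b)<|
 a (a 0<|a 3<|a 0<|a 3<|a 3<|a 0<|a 3<|a 0<|a 2<|b)<|a b<|a b<|a b<|a (a 0<|a 3<|a 0<|a 2<|a 3<|a 2<|b)<|a (a 3<|a 0<|a 3<|a 3<|a 0<|a 3<|a 0<|a 2<|a 3<|b)<|a b<|a b<|a (a 3<|a 0<|a 3<|a 0<|a 3<|a 2<|a 0<|a 3<|a 3<|b)<|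
 a (a 2<|a 0<|a 3<|a 0<|a 3<|a 3<|a 0<|a 3<|b)<|a b<|a b<|a (a 1<|a 3<|a 2<|a 0<|a 3<|a 0<|a 3<|a 0<|a 3<|b)<|a b<|a (a 1<|a 2<|a 3<|a 0<|a 3<|a 0<|a 3<|b)<|b)<|a b<|a (a (a 0<|a 3<|a 0<|a 3<|a 2<|a 0<|a 3<|a 0<|a 3<|b)<|
 a (a 2<|a 0<|a 3<|a 0<|a 3<|a 0<|a 3<|a 0<|b)<|a (a 3<|a 0<|a 3<|a 3<|a 0<|a 3<|a 1<|a 0<|a 3<|a 0<|b)<|a (a 0<|a 3<|a 2<|a 0<|a 3<|b)<|a (a 3<|a 0<|a 3<|a 0<|a 3<|a 0<|a 3<|a 1<|a 0<|b)<|a b<|a (a 3<|a 3<|a 0<|a 3<|a 2<|a 3<|a 0<|b)<|a b<|a b<|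
 a (a 1<|a 3<|a 0<|a 3<|a 0<|a 3<|a 0<|a 3<|a 0<|b)<|a b<|a b<|a (a 1<|a 2<|a 3<|a 0<|a 3<|a 0<|a 3<|b)<|a (a 0<|a 3<|a 3<|a 0<|a 3<|a 3<|a 0<|a 3<|b)<|a b<|a b<|a (a 3<|a 3<|a 0<|a 3<|a 1<|a 0<|a 3<|a 0<|b)<|a b<|
 a (a 0<|a 3<|a 0<|a 3<|a 0<|a 3<|a 1<|a 0<|a 3<|a 3<|b)<|b)<|a (a (a 1<|a 3<|a 0<|a 3<|a 3<|a 0<|a 3<|a 3<|b)<|a (a 3<|a 0<|a 3<|a 3<|a 0<|a 3<|a 0<|a 2<|b)<|a (a 3<|a 3<|a 0<|a 3<|a 0<|a 2<|a 3<|a 3<|b)<|a (a 3<|a 0<|a 3<|a 3<|a 0<|a 3<|a 2<|a 0<|b)<|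
 a (a 0<|a 3<|a 0<|a 3<|a 0<|a 3<|a 3<|a 0<|a 3<|a 2<|b)<|a b<|a (a 0<|a 3<|a 3<|a 0<|a 3<|a 1<|b)<|a b<|a (a 3<|a 0<|a 1<|a 3<|a 0<|a 3<|a 0<|a 3<|a 0<|a 3<|b)<|a b<|a b<|a b<|a (a 3<|a 1<|a 2<|a 0<|b)<|
 a (a 3<|a 0<|a 3<|a 0<|a 3<|a 3<|a 0<|a 3<|a 0<|a 3<|b)<|a b<|a b<|a (a 3<|a 3<|a 0<|a 3<|a 1<|a 0<|a 3<|a 0<|a 3<|a 3<|b)<|a b<|a (a 1<|a 3<|a 0<|a 3<|a 0<|a 3<|a 0<|a 2<|a 3<|a 3<|b)<|b)<|a b<|a b<|a (a (a 0<|a 3<|a 0<|b)<|
 a (a 3<|a 0<|a 3<|a 3<|a 0<|a 3<|a 1<|a 0<|a 3<|a 0<|b)<|a (a 0<|a 3<|a 0<|a 3<|a 3<|a 0<|a 3<|a 1<|a 0<|b)<|a (a 0<|a 1<|a 2<|b)<|a (a 0<|a 3<|a 0<|a 3<|a 3<|a 0<|a 3<|a 0<|a 3<|a 3<|b)<|a b<|a (a 0<|a 2<|b)<|a b<|a (a 0<|a 3<|a 0<|a 3<|a 0<|a 3<|a 0<|a 2<|b)<|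
 a (a 0<|a 3<|a 3<|a 0<|a 3<|a 0<|a 3<|a 0<|a 1<|a 3<|b)<|a b<|a b<|a b<|a (a 3<|a 2<|a 0<|a 3<|a 0<|b)<|a b<|a b<|a (a 1<|a 0<|a 3<|a 0<|a 3<|a 3<|b)<|a b<|a (a 0<|a 3<|a 3<|a 2<|a 0<|b)<|b)<|a (a (a 0<|a 3<|a 3<|a 0<|a 3<|a 2<|a 3<|a 0<|a 3<|a 0<|b)<|
 a (a 1<|a 3<|a 2<|a 0<|a 3<|a 3<|b)<|a (a 0<|a 3<|a 2<|a 0<|a 3<|a 0<|a 3<|a 0<|a 2<|b)<|a (a 3<|a 3<|a 0<|a 3<|a 3<|a 0<|a 3<|a 1<|b)<|a (a 0<|a 3<|a 0<|a 3<|a 1<|a 0<|b)<|a b<|a (a 0<|a 3<|a 1<|b)<|a b<|a (a 3<|a 0<|a 3<|a 0<|a 3<|a 0<|a 3<|a 3<|b)<|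
 a (a 0<|a 3<|a 0<|a 1<|a 3<|b)<|a b<|a b<|a (a 3<|a 1<|a 0<|a 3<|a 3<|b)<|a b<|a b<|a b<|a (a 1<|a 0<|a 3<|a 0<|a 3<|b)<|a b<|a (a 3<|a 0<|a 3<|a 0<|a 3<|a 1<|a 0<|b)<|b)<|a b<|a b<|a (a (a 0<|a 3<|a 0<|a 3<|a 0<|a 2<|a 3<|a 3<|b)<|
 a (a 3<|a 0<|a 1<|a 3<|b)<|a (a 0<|a 3<|a 0<|a 3<|a 1<|a 0<|a 3<|a 3<|a 0<|b)<|a (a 3<|a 0<|a 2<|b)<|a (a 3<|a 3<|a 0<|a 3<|a 0<|a 2<|b)<|a b<|a (a 3<|a 0<|a 3<|a 2<|a 0<|a 3<|b)<|a b<|a (a 3<|a 0<|a 3<|a 3<|a 0<|a 3<|a 0<|a 3<|a 3<|a 2<|b)<|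
 a (a 0<|a 3<|a 0<|a 3<|a 0<|a 2<|b)<|a b<|a b<|a (a 3<|a 0<|a 1<|a 3<|a 3<|b)<|a (a 3<|a 3<|a 2<|a 0<|a 3<|a 0<|b)<|a b<|a b<|a b<|a b<|a (a 2<|a 0<|a 3<|a 0<|a 3<|a 3<|a 0<|a 3<|a 0<|b)<|b)<|a b<|a (a (a 2<|a 3<|a 0<|b)<|
 a (a 3<|a 0<|a 2<|a 3<|a 0<|a 3<|a 0<|a 3<|a 3<|b)<|a (a 1<|a 3<|a 0<|a 3<|a 0<|a 3<|a 0<|a 1<|a 3<|b)<|a (a 2<|a 0<|a 3<|a 2<|a 0<|a 3<|a 0<|b)<|a (a 3<|a 0<|a 3<|a 0<|a 3<|a 0<|a 3<|a 1<|a 0<|a 3<|b)<|a b<|a (a 0<|a 3<|a 3<|a 0<|a 3<|a 2<|a 3<|a 0<|a 3<|b)<|a b<|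
 a (a 3<|a 0<|a 2<|a 3<|a 0<|a 3<|a 0<|a 3<|a 0<|a 1<|b)<|a (a 3<|a 2<|a 0<|a 3<|a 0<|a 3<|a 0<|a 2<|a 3<|a 3<|b)<|a b<|a b<|a (a 2<|a 3<|a 0<|a 3<|a 0<|a 3<|a 0<|a 3<|a 3<|b)<|a (a 3<|a 3<|a 0<|a 2<|a 3<|a 0<|a 3<|a 0<|a 3<|a 3<|b)<|a b<|a b<|
 a (a 3<|a 1<|a 0<|a 3<|a 0<|a 3<|a 3<|b)<|a b<|a b<|b)<|b))

/-- words in the generators of the stabiliser mapping `12, 13` to the given points -/
def tM : List (List (List ℕ)) :=
  (beta% delta% lq26f12eb2bb fun a b =>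
 (a (a b<|a (a 3<|a 3<|a 0<|a 3<|b)<|a (a 3<|a 1<|a 0<|a 3<|a 0<|a 3<|a 0<|a 3<|b)<|a (a 1<|a 2<|a 3<|a 0<|a 3<|a 0<|a 3<|a 0<|a 3<|b)<|a (a 3<|a 0<|a 2<|a 3<|b)<|a b<|a (a 3<|a 2<|a 0<|a 3<|a 0<|a 3<|a 0<|a 3<|b)<|a b<|a (a 2<|a 0<|a 3<|b)<|a b<|a b<|
 a b<|a (a 0<|a 3<|a 2<|a 0<|a 3<|a 0<|a 3<|b)<|a (a 0<|a 3<|a 0<|a 3<|a 2<|a 0<|a 3<|b)<|a b<|a b<|a b<|a b<|a (a 3<|a 2<|a 3<|a 0<|a 3<|a 0<|a 3<|a 0<|a 3<|b)<|b)<|a (a (a 3<|a 3<|a 0<|a 2<|a 3<|b)<|a b<|a (a 3<|a 0<|a 3<|a 2<|a 0<|a 3<|a 0<|a 3<|b)<|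
 a (a 1<|a 3<|a 2<|a 0<|a 3<|a 0<|a 3<|a 0<|a 3<|b)<|a (a 0<|a 3<|b)<|a b<|a (a 3<|a 0<|a 3<|a 0<|a 3<|a 2<|a 0<|a 3<|b)<|a b<|a (a 3<|a 2<|a 0<|a 3<|b)<|a b<|a b<|a b<|a (a 0<|a 1<|a 3<|a 0<|a 3<|a 0<|a 3<|b)<|a (a 0<|a 3<|a 3<|a 0<|a 3<|a 3<|a 0<|a 3<|b)<|
 a b<|a b<|a b<|a b<|a (a 3<|a 3<|a 2<|a 0<|a 3<|a 0<|a 3<|a 0<|a 3<|b)<|b)<|a (a (a 2<|a 3<|a 0<|a 3<|a 0<|a 3<|a 0<|a 3<|a 3<|b)<|a (a 3<|a 0<|a 3<|a 0<|a 3<|a 3<|a 0<|a 3<|b)<|a b<|a (a 0<|a 3<|a 0<|a 3<|b)<|a (a 3<|a 0<|a 3<|a 3<|a 0<|a 3<|a 0<|a 3<|b)<|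
 a b<|a (a 3<|b)<|a b<|a (a 3<|a 0<|a 3<|a 0<|a 3<|a 0<|a 2<|a 3<|b)<|a b<|a b<|a b<|a (a 1<|a 3<|a 0<|a 3<|a 0<|a 3<|b)<|a (a 3<|a 3<|a 0<|a 3<|a 3<|a 0<|a 3<|b)<|a b<|a b<|a b<|a b<|a (a 0<|a 3<|a 3<|a 2<|a 0<|a 3<|b)<|b)<|
 a (a (a 3<|a 3<|a 0<|a 3<|a 3<|a 0<|a 3<|a 0<|a 3<|b)<|a (a 0<|a 3<|a 1<|a 0<|a 3<|a 0<|a 3<|a 0<|a 3<|b)<|a (a 0<|a 3<|a 0<|a 2<|a 3<|b)<|a b<|a (a 3<|a 3<|a 0<|a 3<|a 0<|a 3<|a 3<|a 0<|a 3<|b)<|a b<|a (a 0<|a 3<|a 3<|a 0<|a 3<|b)<|a b<|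
 a (a 3<|a 3<|a 0<|a 3<|a 0<|a 3<|a 0<|a 2<|a 3<|b)<|a b<|a b<|a b<|a (a 3<|a 0<|a 3<|a 0<|a 3<|b)<|a (a 2<|a 3<|a 0<|a 3<|a 0<|a 3<|b)<|a b<|a b<|a b<|a b<|a (a 3<|a 3<|b)<|b)<|a (a (a 3<|a 0<|a 3<|b)<|a (a 0<|a 2<|a 3<|b)<|
 a (a 3<|a 0<|a 1<|a 3<|a 0<|a 3<|a 0<|a 3<|b)<|a (a 3<|a 3<|a 0<|a 3<|a 2<|a 0<|a 3<|a 0<|a 3<|b)<|a b<|a b<|a (a 2<|a 3<|a 0<|a 3<|a 0<|a 3<|a 0<|a 3<|b)<|a b<|a (a 3<|a 3<|a 2<|a 0<|a 3<|b)<|a b<|a b<|a b<|a (a 1<|a 0<|a 3<|a 0<|a 3<|a 0<|a 3<|b)<|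
 a (a 2<|a 0<|a 3<|a 0<|a 3<|a 0<|a 3<|b)<|a b<|a b<|a b<|a b<|a (a 1<|a 3<|a 0<|a 3<|a 0<|a 3<|a 0<|a 3<|b)<|b)<|a b<|a (a (a 3<|a 0<|a 3<|a 3<|a 0<|a 3<|a 2<|a 0<|a 3<|b)<|a (a 3<|a 0<|a 3<|a 0<|a 2<|a 3<|a 0<|a 3<|b)<|a (a 2<|a 3<|b)<|
 a (a 2<|a 0<|a 3<|a 0<|a 3<|b)<|a (a 3<|a 0<|a 3<|a 3<|a 2<|a 0<|a 3<|a 0<|a 3<|b)<|a b<|a b<|a b<|a (a 3<|a 0<|a 3<|a 1<|a 0<|a 3<|a 0<|a 3<|b)<|a b<|a b<|a b<|a (a 1<|a 3<|a 2<|a 0<|a 3<|a 0<|a 3<|b)<|a (a 3<|a 3<|a 0<|a 2<|a 3<|a 0<|a 3<|b)<|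
 a b<|a b<|a b<|a b<|a (a 0<|a 3<|a 2<|a 0<|a 3<|b)<|b)<|a b<|a (a (a 0<|a 3<|a 3<|b)<|a (a 2<|a 3<|a 0<|a 3<|b)<|a (a 3<|a 0<|a 3<|a 0<|a 3<|a 0<|a 3<|b)<|a (a 3<|a 3<|a 0<|a 3<|a 0<|a 3<|a 0<|a 3<|b)<|a (a 3<|a 2<|a 3<|a 0<|a 3<|b)<|a b<|
 a (a 3<|a 0<|a 2<|a 3<|a 0<|a 3<|a 0<|a 3<|b)<|a b<|a b<|a b<|a b<|a b<|a (a 0<|a 3<|a 0<|a 3<|a 0<|a 3<|b)<|a (a 0<|a 2<|a 3<|a 0<|a 3<|a 0<|a 3<|b)<|a b<|a b<|a b<|a b<|a (a 3<|a 3<|a 0<|a 2<|a 3<|a 0<|a 3<|a 0<|a 3<|b)<|b)<|a (a b<|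
 a b<|a b<|a b<|a b<|a b<|a b<|a b<|a b<|a b<|a b<|a b<|a b<|a b<|a b<|a b<|a b<|a b<|a b<|b)<|a b<|a b<|a (a (a 0<|a 3<|a 0<|a 3<|a 3<|a 0<|a 3<|b)<|
 a (a 0<|a 3<|a 3<|a 0<|a 3<|a 0<|a 3<|b)<|a (a 3<|a 3<|a 0<|a 3<|a 0<|a 3<|b)<|a (a 3<|a 0<|a 3<|a 0<|a 2<|a 3<|b)<|a (a 0<|a 3<|a 2<|a 3<|a 0<|a 3<|a 0<|a 3<|b)<|a b<|a (a 3<|a 2<|a 3<|a 0<|a 3<|a 0<|a 3<|b)<|a b<|a (a 0<|a 3<|a 0<|a 3<|a 0<|a 2<|a 3<|b)<|a b<|
 a b<|a b<|a b<|a b<|a b<|a b<|a b<|a b<|a (a 3<|a 0<|a 3<|a 3<|a 0<|a 3<|b)<|b)<|a (a (a 0<|a 3<|a 0<|a 2<|a 3<|a 0<|a 3<|b)<|a (a 0<|a 3<|a 3<|a 2<|a 0<|a 3<|a 0<|a 3<|b)<|a (a 3<|a 3<|a 2<|a 0<|a 3<|a 0<|a 3<|b)<|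
 a (a 3<|a 1<|a 0<|a 3<|a 0<|a 3<|b)<|a (a 0<|a 3<|a 3<|a 0<|a 3<|a 2<|a 0<|a 3<|b)<|a b<|a (a 3<|a 3<|a 0<|a 3<|a 2<|a 0<|a 3<|b)<|a b<|a (a 0<|a 3<|a 1<|a 0<|a 3<|a 0<|a 3<|b)<|a b<|a b<|a b<|a (a 2<|b)<|a b<|a b<|a b<|a b<|a b<|
 a (a 3<|a 0<|a 2<|a 3<|a 0<|a 3<|b)<|b)<|a b<|a b<|a (a b<|a b<|a b<|a b<|a b<|a b<|a b<|a b<|a b<|a b<|a b<|a b<|a b<|a b<|a b<|a b<|a b<|a b<|a b<|b)<|a b<|
 a (a (a 2<|a 0<|a 3<|a 0<|a 3<|a 0<|a 3<|a 0<|a 3<|b)<|a (a 0<|a 3<|a 0<|a 3<|a 0<|a 3<|a 0<|a 3<|b)<|a (a 1<|a 0<|a 3<|a 0<|a 3<|b)<|a (a 1<|a 3<|b)<|a (a 3<|a 3<|a 0<|a 3<|a 0<|a 2<|a 3<|a 0<|a 3<|b)<|a b<|a (a 0<|a 2<|a 3<|a 0<|a 3<|b)<|a b<|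
 a (a 0<|a 3<|a 3<|a 0<|a 3<|a 0<|a 3<|a 0<|a 3<|b)<|a b<|a b<|a b<|a (a 3<|a 2<|a 0<|a 3<|a 0<|a 3<|b)<|a (a 3<|a 0<|a 3<|a 2<|a 0<|a 3<|b)<|a b<|a b<|a b<|a b<|a b<|b)<|b))

/-- entry of a table -/
def tg (T : List (List (List ℕ))) (a b : ℕ) : List ℕ := (T.getD a []).getD b []

/-- the test -/
def chk (g : List ℕ) (T : List (List (List ℕ))) (i j : Fin 12) : Bool :=
  decide (i = j) || eqW (g ++ tg tR (pn i) (pn j)) (tg tR (act g (pn i)) (act g (pn j)) ++ (tg T (pn i) (pn j)).flatMap sw)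

private theorem _root_.Cfsg.Agent.KO945eb0c.e0.{ku, kv} {α : Type kv} {M : List α → Sort ku} (φ : ∀ l, M l) {z : M List.nil} {s : ∀ a l, M l → M (List.cons a l)} (h0 : φ List.nil = z) (hs : ∀ a l, φ (List.cons a l) = s a l (φ l)) (l : List α) : φ l = @List.rec α M z s l := List.rec h0 (fun a l ih => (hs a l).trans (congrArg (s a l) ih)) l
private noncomputable def _root_.Cfsg.Agent.KO945eb0c.k2 : type_of% @Nat.decEq := @(fun x0 x1 => @Bool.rec.{1} @(fun x2 => (@Eq.{1} _ (@Nat.beq @x0 @x1) @x2) → @Decidable (@Eq.{1} _ @x0 @x1)) @(fun x2 => @Decidable.isFalse _ (@Nat.ne_of_beq_eq_false _ _ @x2)) @(fun x2 => @Decidable.isTrue _ (@Nat.eq_of_beq_eq_true _ _ @x2)) (@Nat.beq @x0 @x1) (@Eq.refl.{1} _ (@Nat.beq @x0 @x1)))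
private theorem _root_.Cfsg.Agent.KO945eb0c.e2 : @Nat.decEq = @_root_.Cfsg.Agent.KO945eb0c.k2 := by delta _root_.Cfsg.Agent.KO945eb0c.k2; rfl'
private noncomputable def _root_.Cfsg.Agent.KO945eb0c.k4 : type_of% @instDecidableEqFin := @(fun x0 x1 x2 => @Decidable.rec.{1} _ @(fun x3 => @Decidable (@Eq.{1} _ @x1 @x2)) @(fun x3 => @Decidable.isFalse _ (@instDecidableEqFin._proof_1 @x0 @x1 @x2 @x3)) @(fun x3 => @Decidable.isTrue _ (@Fin.eq_of_val_eq _ _ _ @x3)) (@Cfsg.Agent.KO945eb0c.k2 (@Fin.val _ @x1) (@Fin.val _ @x2)))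
private theorem _root_.Cfsg.Agent.KO945eb0c.e4 : @instDecidableEqFin = @_root_.Cfsg.Agent.KO945eb0c.k4 := by delta _root_.Cfsg.Agent.KO945eb0c.k4; rewrite [← Cfsg.Agent.KO945eb0c.e2]; rfl'
private noncomputable def _root_.Cfsg.Agent.KO945eb0c.k13 : type_of% @Decidable.decide := @(fun x0 x1 => @Decidable.rec.{1} _ @(fun x2 => @Bool) @(fun x2 => @Bool.false) @(fun x2 => @Bool.true) @x1)
private theorem _root_.Cfsg.Agent.KO945eb0c.e13 : @Decidable.decide = @_root_.Cfsg.Agent.KO945eb0c.k13 := by delta _root_.Cfsg.Agent.KO945eb0c.k13; rfl'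
private noncomputable def _root_.Cfsg.Agent.KO945eb0c.k25 : type_of% @Bool.decEq := @(fun x0 x1 => @Bool.rec.{1} @(fun x2 => @Decidable (@Eq.{1} _ @x2 @x1)) (@Bool.rec.{1} @(fun x2 => @Decidable (@Eq.{1} _ @Bool.false @x2)) (@Decidable.isTrue _ (@rfl.{1} _ _)) (@Decidable.isFalse _ @(fun x2 => @Bool.noConfusion.{0} _ _ _ @x2)) @x1) (@Bool.rec.{1} @(fun x2 => @Decidable (@Eq.{1} _ @Bool.true @x2)) (@Decidable.isFalse _ @(fun x2 => @Bool.noConfusion.{0} _ _ _ @x2)) (@Decidable.isTrue _ (@rfl.{1} _ _)) @x1) @x0)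
private theorem _root_.Cfsg.Agent.KO945eb0c.e25 : @Bool.decEq = @_root_.Cfsg.Agent.KO945eb0c.k25 := by delta _root_.Cfsg.Agent.KO945eb0c.k25; rfl'
private theorem _root_.Cfsg.Agent.KO945eb0c.e30.{ku} {M : Nat → Sort ku} (φ : ∀ n, M n) {z : M Nat.zero} {s : ∀ n, M n → M (Nat.succ n)} (h0 : φ Nat.zero = z) (hs : ∀ n, φ (Nat.succ n) = s n (φ n)) (n : Nat) : φ n = @Nat.rec M z s n := Nat.rec h0 (fun n ih => (hs n).trans (congrArg (s n) ih)) n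
private noncomputable def _root_.Cfsg.Agent.KO945eb0c.k37.{ku0} : type_of% @List.get?Internal.{ku0} := @(fun x0 x1 x2 => @List.rec.{(ku0+1), ku0} @x0 @(fun x3 => ℕ → @Option.{ku0} @x0) @(fun x3 => @Option.none.{ku0} _) @(fun x3 x4 x5 x6 => @Nat.rec.{(ku0+1)} @(fun x7 => @Option.{ku0} @x0) (@Option.some.{ku0} _ @x3) @(fun x7 x8 => @x5 @x7) @x6) @x1 @x2)
private theorem _root_.Cfsg.Agent.KO945eb0c.e37.{ku0} : @List.get?Internal.{ku0} = @_root_.Cfsg.Agent.KO945eb0c.k37.{ku0} := by delta _root_.Cfsg.Agent.KO945eb0c.k37; funext a0 a1 a2; refine (congrFun (_root_.Cfsg.Agent.KO945eb0c.e0 (fun a1 a2 => @List.get?Internal.{ku0} a0 a1 a2) ?_ (fun c0 c1 => ?_) a1) a2 :) <;> [(funext b0; (rfl')); (funext b0; (cases b0 with | @zero  => (rfl') | @succ b0_0 => (rfl')))]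
private noncomputable def _root_.Cfsg.Agent.KO945eb0c.k39l (n : Nat) (P : ∀ k, k < n → Prop) (H : ∀ k h, Decidable (P k h)) (m : Nat) : m ≤ n → Bool := @Nat.rec (fun m => m ≤ n → Bool) (fun _ => true) (fun k ih h => @Decidable.rec (P k h) (fun _ => Bool) (fun _ => false) (fun _ => ih (Nat.le_of_succ_le h)) (H k h)) m
private theorem _root_.Cfsg.Agent.KO945eb0c.k39ls (n : Nat) (P : ∀ k, k < n → Prop) (H : ∀ k h, Decidable (P k h)) (m : Nat) : ∀ h : m ≤ n, _root_.Cfsg.Agent.KO945eb0c.k39l n P H m h = true ↔ ∀ k (g : k < m), P k (Nat.lt_of_lt_of_le g h) := by induction m with | zero => exact fun _ => ⟨fun _ _ g => absurd g (Nat.not_lt_zero _), fun _ => rfl⟩ | succ m ih => intro h; show @Decidable.rec (P m h) (fun _ => Bool) (fun _ => false) (fun _ => _root_.Cfsg.Agent.KO945eb0c.k39l n P H m (Nat.le_of_succ_le h)) (H m h) = true ↔ _; cases H m h with | isFalse q => exact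 ⟨fun g => absurd g Bool.false_ne_true, fun g => absurd (g m (Nat.lt_succ_self m)) q⟩ | isTrue q => exact ⟨fun g k hk => (Nat.lt_succ_iff_lt_or_eq.1 hk).elim ((ih _).1 g k) fun e => by subst e; exact q, fun g => (ih _).2 fun k hk => g k (Nat.lt_succ_of_lt hk)⟩
private noncomputable def _root_.Cfsg.Agent.KO945eb0c.k39 (n : Nat) (P : ∀ k, k < n → Prop) (H : ∀ k h, Decidable (P k h)) : Decidable (∀ k h, P k h) := @Bool.rec (fun b => _root_.Cfsg.Agent.KO945eb0c.k39l n P H n (Nat.le_refl n) = b → Decidable (∀ k h, P k h)) (fun g => isFalse fun q => Bool.false_ne_true (g.symm.trans ((_root_.Cfsg.Agent.KO945eb0c.k39ls n P H n _).2 fun k h => q k h))) (fun g => isTrue fun k h => (_root_.Cfsg.Agent.KO945eb0c.k39ls n P H n _).1 g k h) (_root_.Cfsg.Agent.KO945eb0c.k39l n P H n (Nat.le_refl n)) rfl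
private theorem _root_.Cfsg.Agent.KO945eb0c.e39 : @Nat.decidableBallLT = @_root_.Cfsg.Agent.KO945eb0c.k39 := funext fun _ => funext fun _ => funext fun _ => Subsingleton.elim _ _
private noncomputable def _root_.Cfsg.Agent.KO945eb0c.k40 : type_of% @Nat.decidableForallFin := @(fun x0 x1 x2 => @Decidable.rec.{1} _ @(fun x3 => @Decidable ((x4 : @Fin @x0) → @x1 @x4)) @(fun x3 => @Decidable.isFalse _ (@decidable_of_decidable_of_iff._proof_1 _ _ (@Nat.decidableForallFin._proof_1 _ @x1) @x3)) @(fun x3 => @Decidable.isTrue _ (@Iff.mp _ _ (@Nat.decidableForallFin._proof_1 _ @x1) @x3)) (@Cfsg.Agent.KO945eb0c.k39 @x0 @(fun x3 x4 => @x1 (@Fin.mk _ @x3 @x4)) @(fun x3 x4 => @x2 (@Fin.mk _ @x3 @x4))))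
private theorem _root_.Cfsg.Agent.KO945eb0c.e40 : @Nat.decidableForallFin = @_root_.Cfsg.Agent.KO945eb0c.k40 := by delta _root_.Cfsg.Agent.KO945eb0c.k40; rewrite [← Cfsg.Agent.KO945eb0c.e39]; rfl'
private noncomputable def _root_.Cfsg.Agent.KO945eb0c.k41 : type_of% @instDecidableEqBool := @Cfsg.Agent.KO945eb0c.k25
private theorem _root_.Cfsg.Agent.KO945eb0c.e41 : @instDecidableEqBool = @_root_.Cfsg.Agent.KO945eb0c.k41 := by delta _root_.Cfsg.Agent.KO945eb0c.k41; rewrite [← Cfsg.Agent.KO945eb0c.e25]; rfl'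
private noncomputable def _root_.Cfsg.Agent.KO945eb0c.k42 : (by first | exact type_of% @Cfsg.Agent.CoThreeStd.MTwelve.allB | exact Unit : Sort _) := by first | (refine @Subtype.val _ (fun g => @Cfsg.Agent.CoThreeStd.MTwelve.allB = @g) (@Subtype.mk _ _ (@(fun x0 x1 => @Nat.rec.{1} @(fun x2 => @Bool) @Bool.true @(fun x2 x3 => @Bool.rec.{1} @(fun x4 => @Bool) @Bool.false @x3 (@x0 @x2)) @x1)) ?_); funext a0 a1; refine (_root_.Cfsg.Agent.KO945eb0c.e30 (fun a1 => @Cfsg.Agent.CoThreeStd.MTwelve.allB a0 a1) ?_ (fun c0 => ?_) a1 :) <;> (rfl')) | exact @Cfsg.Agent.CoThreeStd.MTwelve.allB | exact ()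
private theorem _root_.Cfsg.Agent.KO945eb0c.e42 : (by first | exact @Cfsg.Agent.CoThreeStd.MTwelve.allB = @_root_.Cfsg.Agent.KO945eb0c.k42 | exact True : Prop) := by first | (delta _root_.Cfsg.Agent.KO945eb0c.k42; exact @Subtype.property _ (fun g => @Cfsg.Agent.CoThreeStd.MTwelve.allB = @g) _) | rfl | trivial
private noncomputable def _root_.Cfsg.Agent.KO945eb0c.k43 : (by first | exact type_of% @Cfsg.Agent.CoThreeStd.MTwelve.ptab | exact Unit : Sort _) := by first | (refine @Subtype.val _ (fun g => @Cfsg.Agent.CoThreeStd.MTwelve.ptab = @g) (@Subtype.mk _ _ (@(fun x0 => @Decidable.rec.{1} _ @(fun x1 => ℕ) @(fun x1 => @Decidable.rec.{1} _ @(fun x2 => ℕ) @(fun x2 => @Decidable.rec.{1} _ @(fun x3 => ℕ) @(fun x3 => @Decidable.rec.{1} _ @(fun x4 => ℕ) @(fun x4 => @Decidable.rec.{1} _ @(fun x5 => ℕ) @(fun x5 => @Decidable.rec.{1} _ @(fun x6 => ℕ) @(fun x6 => nat_lit 984818244535754528103549039458486304)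 @(fun x6 => @Eq.rec.{1, 1} ℕ (nat_lit 5) @(fun x7 x8 => ℕ) (nat_lit 470695984958501183632338083676959939) @x0 (@Eq.symm.{1} _ _ _ @x6)) (@Cfsg.Agent.KO945eb0c.k2 @x0 (nat_lit 5))) @(fun x5 => @Eq.rec.{1, 1} ℕ (nat_lit 4) @(fun x6 x7 => ℕ) (nat_lit 726038449334658011187390141433938018) @x0 (@Eq.symm.{1} _ _ _ @x5)) (@Cfsg.Agent.KO945eb0c.k2 @x0 (nat_lit 4))) @(fun x4 => @Eq.rec.{1, 1} ℕ (nat_lit 3) @(fun x5 x6 => ℕ) (nat_lit 316135199773439064679838769418249352) @x0 (@Eq.symm.{1} _ _ _ @x4)) (@Cfsg.Agent.KO945eb0c.k2 @x0 (nat_lit 3))) @(fun x3 => @Eq.rec.{1, 1} ℕ (nat_lit 2) @(fun x4 x5 => ℕ) (nat_lit 944112378068428653973304136837505606) @x0 (@Eq.symm.{1} _ _ _ @x3)) (@Cfsg.Agent.KO945eb0c.k2 @x0 (nat_lit 2))) @(fun x2 => @Eq.rec.{1, 1} ℕ (nat_lit 1) @(fun x3 x4 => ℕ) (nat_lit 731113300341743120980327113948168290) @x0 (@Eq.symm.{1} _ _ _ @x2)) (@Cfsg.Agent.KO945eb0c.k2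 @x0 (nat_lit 1))) @(fun x1 => @Eq.rec.{1, 1} ℕ (nat_lit 0) @(fun x2 x3 => ℕ) (nat_lit 234127864083396158983920601914215425) @x0 (@Eq.symm.{1} _ _ _ @x1)) (@Cfsg.Agent.KO945eb0c.k2 @x0 (nat_lit 0)))) ?_); rewrite [← Cfsg.Agent.KO945eb0c.e2]; rfl') | exact @Cfsg.Agent.CoThreeStd.MTwelve.ptab | exact ()
private theorem _root_.Cfsg.Agent.KO945eb0c.e43 : (by first | exact @Cfsg.Agent.CoThreeStd.MTwelve.ptab = @_root_.Cfsg.Agent.KO945eb0c.k43 | exact True : Prop) := by first | (delta _root_.Cfsg.Agent.KO945eb0c.k43; exact @Subtype.property _ (fun g => @Cfsg.Agent.CoThreeStd.MTwelve.ptab = @g) _) | rfl | trivial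
private noncomputable def _root_.Cfsg.Agent.KO945eb0c.k44 : (by first | exact type_of% @Cfsg.Agent.CoThreeStd.MTwelve.act | exact Unit : Sort _) := by first | (refine @Subtype.val _ (fun g => @Cfsg.Agent.CoThreeStd.MTwelve.act = @g) (@Subtype.mk _ _ (@(fun x0 x1 => @List.rec.{1, 0} ℕ @(fun x2 => ℕ → ℕ) @(fun x2 => @x2) @(fun x2 x3 x4 x5 => @Nat.mod (@Nat.shiftRight (@Cfsg.Agent.KO945eb0c.k43 @x2) (@Nat.mul (nat_lit 5) (@x4 @x5))) (nat_lit 32)) @x0 @x1)) ?_); rewrite [← Cfsg.Agent.KO945eb0c.e43]; funext a0 a1; refine (congrFun (_root_.Cfsg.Agent.KO945eb0c.e0 (fun a0 a1 => @Cfsg.Agent.CoThreeStd.MTwelve.act a0 a1) ?_ (fun c0 c1 => ?_) a0) a1 :) <;> ((try delta Cfsg.Agent.CoThreeStd.MTwelve.act Cfsg.Agent.CoThreeStd.MTwelve.act._f); (try generalize @Cfsg.Agent.CoThreeStd.MTwelve.ptab = g0); rfl')) | exact @Cfsg.Agent.CoThreeStd.MTwelve.act | exact ()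
private theorem _root_.Cfsg.Agent.KO945eb0c.e44 : (by first | exact @Cfsg.Agent.CoThreeStd.MTwelve.act = @_root_.Cfsg.Agent.KO945eb0c.k44 | exact True : Prop) := by first | (delta _root_.Cfsg.Agent.KO945eb0c.k44; exact @Subtype.property _ (fun g => @Cfsg.Agent.CoThreeStd.MTwelve.act = @g) _) | rfl | trivial
private noncomputable def _root_.Cfsg.Agent.KO945eb0c.k45.{ku0} : type_of% @List.append.{ku0} := @(fun x0 x1 x2 => @List.rec.{(ku0+1), ku0} @x0 @(fun x3 => (@List.{ku0} @x0) → @List.{ku0} @x0) @(fun x3 => @x3) @(fun x3 x4 x5 x6 => @x3 :: (@x5 @x6)) @x1 @x2)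
private theorem _root_.Cfsg.Agent.KO945eb0c.e45.{ku0} : @List.append.{ku0} = @_root_.Cfsg.Agent.KO945eb0c.k45.{ku0} := by delta _root_.Cfsg.Agent.KO945eb0c.k45; funext a0 a1 a2; refine (congrFun (_root_.Cfsg.Agent.KO945eb0c.e0 (fun a1 a2 => @List.append.{ku0} a0 a1 a2) ?_ (fun c0 c1 => ?_) a1) a2 :) <;> (rfl')
private noncomputable def _root_.Cfsg.Agent.KO945eb0c.k46.{ku0} : type_of% @List.flatten.{ku0} := @(fun x0 x1 => @List.rec.{(ku0+1), ku0} (@List.{ku0} @x0) @(fun x2 => @List.{ku0} @x0) [] @(fun x2 x3 x4 => @Cfsg.Agent.KO945eb0c.k45.{ku0} _ @x2 @x4) @x1)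
private theorem _root_.Cfsg.Agent.KO945eb0c.e46.{ku0} : @List.flatten.{ku0} = @_root_.Cfsg.Agent.KO945eb0c.k46.{ku0} := by delta _root_.Cfsg.Agent.KO945eb0c.k46; rewrite [← Cfsg.Agent.KO945eb0c.e45.{ku0}]; funext a0 a1; refine (_root_.Cfsg.Agent.KO945eb0c.e0 (fun a1 => @List.flatten.{ku0} a0 a1) ?_ (fun c0 c1 => ?_) a1 :) <;> (rfl')
private noncomputable def _root_.Cfsg.Agent.KO945eb0c.k47.{ku0, ku1} : type_of% @List.map.{ku0, ku1} := @(fun x0 x1 x2 x3 => @List.rec.{(ku1+1), ku0} @x0 @(fun x4 => @List.{ku1} @x1) [] @(fun x4 x5 x6 => (@x2 @x4) :: @x6) @x3)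
private theorem _root_.Cfsg.Agent.KO945eb0c.e47.{ku0, ku1} : @List.map.{ku0, ku1} = @_root_.Cfsg.Agent.KO945eb0c.k47.{ku0, ku1} := by delta _root_.Cfsg.Agent.KO945eb0c.k47; funext a0 a1 a2 a3; refine (_root_.Cfsg.Agent.KO945eb0c.e0 (fun a3 => @List.map.{ku0, ku1} a0 a1 a2 a3) ?_ (fun c0 c1 => ?_) a3 :) <;> (rfl')
private noncomputable def _root_.Cfsg.Agent.KO945eb0c.k48 : (by first | exact type_of% @Cfsg.Agent.H36.M12.sw | exact Unit : Sort _) := by first | (refine @Subtype.val _ (fun g => @Cfsg.Agent.H36.M12.sw = @g) (@Subtype.mk _ _ (@(fun x0 => @Decidable.rec.{1} _ @(fun x1 => @List.{0} ℕ) @(fun x1 => @Decidable.rec.{1} _ @(fun x2 => @List.{0} ℕ) @(fun x2 => @Decidable.rec.{1} _ @(fun x3 => @List.{0} ℕ) @(fun x3 => @Cfsg.Agent.H36.M12.wr) @(fun x3 => @Eq.rec.{1, 1} ℕ (nat_lit 2) @(fun x4 x5 => @List.{0} ℕ) @Cfsg.Agent.H36.M12.ws @x0 (@Eq.symm.{1} _ _ _ @x3)) (@Cfsg.Agent.KO945eb0c.k2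 @x0 (nat_lit 2))) @(fun x2 => @Eq.rec.{1, 1} ℕ (nat_lit 1) @(fun x3 x4 => @List.{0} ℕ) @Cfsg.Agent.H36.M12.wi3 @x0 (@Eq.symm.{1} _ _ _ @x2)) (@Cfsg.Agent.KO945eb0c.k2 @x0 (nat_lit 1))) @(fun x1 => @Eq.rec.{1, 1} ℕ (nat_lit 0) @(fun x2 x3 => @List.{0} ℕ) @Cfsg.Agent.H36.M12.wi2 @x0 (@Eq.symm.{1} _ _ _ @x1)) (@Cfsg.Agent.KO945eb0c.k2 @x0 (nat_lit 0)))) ?_); rewrite [← Cfsg.Agent.KO945eb0c.e2]; (try delta Cfsg.Agent.H36.M12.sw); (try generalize @Cfsg.Agent.H36.M12.wr = g0); (try generalize @Cfsg.Agent.H36.M12.ws = g1); (try generalize @Cfsg.Agent.H36.M12.wi3 = g2); (try generalize @Cfsg.Agent.H36.M12.wi2 = g3); rfl') | exact @Cfsg.Agent.H36.M12.sw | exact ()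
private theorem _root_.Cfsg.Agent.KO945eb0c.e48 : (by first | exact @Cfsg.Agent.H36.M12.sw = @_root_.Cfsg.Agent.KO945eb0c.k48 | exact True : Prop) := by first | (delta _root_.Cfsg.Agent.KO945eb0c.k48; exact @Subtype.property _ (fun g => @Cfsg.Agent.H36.M12.sw = @g) _) | rfl | trivial
private noncomputable def _root_.Cfsg.Agent.KO945eb0c.k49 : (by first | exact type_of% @Cfsg.Agent.H36.M12.chk | exact Unit : Sort _) := by first | (refine @Subtype.val _ (fun g => @Cfsg.Agent.H36.M12.chk = @g) (@Subtype.mk _ _ (@(fun x0 x1 x2 x3 => @Bool.rec.{1} @(fun x4 => @Bool) (@Cfsg.Agent.KO945eb0c.k42 @(fun x4 => @Nat.beq (@Cfsg.Agent.KO945eb0c.k44 (@Cfsg.Agent.KO945eb0c.k45.{0} _ @x0 (@Option.rec.{1, 0} (@List.{0} ℕ) @(fun x5 => @List.{0} ℕ) [] @(fun x5 => @x5) (@Cfsg.Agent.KO945eb0c.k37.{0} _ (@Option.rec.{1, 0} (@List.{0} (@List.{0} ℕ)) @(fun x5 => @List.{0} (@List.{0} ℕ)) []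 @(fun x5 => @x5) (@Cfsg.Agent.KO945eb0c.k37.{0} _ @Cfsg.Agent.H36.M12.tR (@Option.rec.{1, 0} ℕ @(fun x5 => ℕ) (nat_lit 0) @(fun x5 => @x5) (@Cfsg.Agent.KO945eb0c.k37.{0} _ @Cfsg.Agent.H36.M12.dl (@Fin.val _ @x2))))) (@Option.rec.{1, 0} ℕ @(fun x5 => ℕ) (nat_lit 0) @(fun x5 => @x5) (@Cfsg.Agent.KO945eb0c.k37.{0} _ @Cfsg.Agent.H36.M12.dl (@Fin.val _ @x3)))))) @x4) (@Cfsg.Agent.KO945eb0c.k44 (@Cfsg.Agent.KO945eb0c.k45.{0} _ (@Option.rec.{1, 0} (@List.{0} ℕ) @(fun x5 => @List.{0} ℕ) [] @(fun x5 => @x5) (@Cfsg.Agent.KO945eb0c.k37.{0} _ (@Option.rec.{1, 0} (@List.{0} (@List.{0} ℕ)) @(fun x5 => @List.{0} (@List.{0} ℕ)) [] @(fun x5 => @x5) (@Cfsg.Agent.KO945eb0c.k37.{0} _ @Cfsg.Agent.H36.M12.tR (@Cfsg.Agent.KO945eb0c.k44 @x0 (@Option.rec.{1, 0} ℕ @(fun x5 => ℕ) (nat_lit 0) @(fun x5 => @x5) (@Cfsg.Agent.KO945eb0c.k37.{0} _ @Cfsg.Agent.H36.M12.dl (@Fin.val _ @x2)))))) (@Cfsg.Agent.KO945eb0c.k44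 @x0 (@Option.rec.{1, 0} ℕ @(fun x5 => ℕ) (nat_lit 0) @(fun x5 => @x5) (@Cfsg.Agent.KO945eb0c.k37.{0} _ @Cfsg.Agent.H36.M12.dl (@Fin.val _ @x3)))))) (@Cfsg.Agent.KO945eb0c.k46.{0} _ (@Cfsg.Agent.KO945eb0c.k47.{0, 0} _ _ @Cfsg.Agent.KO945eb0c.k48 (@Option.rec.{1, 0} (@List.{0} ℕ) @(fun x5 => @List.{0} ℕ) [] @(fun x5 => @x5) (@Cfsg.Agent.KO945eb0c.k37.{0} _ (@Option.rec.{1, 0} (@List.{0} (@List.{0} ℕ)) @(fun x5 => @List.{0} (@List.{0} ℕ)) [] @(fun x5 => @x5) (@Cfsg.Agent.KO945eb0c.k37.{0} _ @x1 (@Option.rec.{1, 0} ℕ @(fun x5 => ℕ) (nat_lit 0) @(fun x5 => @x5) (@Cfsg.Agent.KO945eb0c.k37.{0} _ @Cfsg.Agent.H36.M12.dl (@Fin.val _ @x2))))) (@Option.rec.{1, 0} ℕ @(fun x5 => ℕ) (nat_lit 0) @(fun x5 => @x5) (@Cfsg.Agent.KO945eb0c.k37.{0} _ @Cfsg.Agent.H36.M12.dl (@Fin.val _ @x3)))))))) @x4)) (nat_lit 24)) @Bool.true (@Decidable.rec.{1} _ @(fun x4 => @Bool) @(fun x4 => @Bool.false)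 @(fun x4 => @Bool.true) (@Cfsg.Agent.KO945eb0c.k4 (nat_lit 12) @x2 @x3)))) ?_); rewrite [← Cfsg.Agent.KO945eb0c.e4, ← Cfsg.Agent.KO945eb0c.e48, ← Cfsg.Agent.KO945eb0c.e47.{0, 0}, ← Cfsg.Agent.KO945eb0c.e46.{0}, ← Cfsg.Agent.KO945eb0c.e37.{0}, ← Cfsg.Agent.KO945eb0c.e45.{0}, ← Cfsg.Agent.KO945eb0c.e44, ← Cfsg.Agent.KO945eb0c.e42]; (try delta Cfsg.Agent.H36.M12.chk Cfsg.Agent.CoThreeStd.MTwelve.eqW Cfsg.Agent.H36.M12.tg Cfsg.Agent.H36.M12.pn); (try generalize @Cfsg.Agent.CoThreeStd.MTwelve.allB = g0); (try generalize @Cfsg.Agent.CoThreeStd.MTwelve.act = g1); (try generalize @Cfsg.Agent.H36.M12.tR = g2); (try generalize @Cfsg.Agent.H36.M12.dl = g3); (try generalize @Cfsg.Agent.H36.M12.sw = g4); rfl') | exact @Cfsg.Agent.H36.M12.chk | exact ()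
private theorem _root_.Cfsg.Agent.KO945eb0c.e49 : (by first | exact @Cfsg.Agent.H36.M12.chk = @_root_.Cfsg.Agent.KO945eb0c.k49 | exact True : Prop) := by first | (delta _root_.Cfsg.Agent.KO945eb0c.k49; exact @Subtype.property _ (fun g => @Cfsg.Agent.H36.M12.chk = @g) _) | rfl | trivial

theorem chk_X : ∀ i j, chk wX tSX i j = true := by (first | (refine of_decide_eq_true ?_; rewrite [Cfsg.Agent.KO945eb0c.e13, Cfsg.Agent.KO945eb0c.e40, Cfsg.Agent.KO945eb0c.e41, Cfsg.Agent.KO945eb0c.e49]; decide +kernel) | decide +kernel)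
theorem chk_Y : ∀ i j, chk wY tSY i j = true := by (first | (refine of_decide_eq_true ?_; rewrite [Cfsg.Agent.KO945eb0c.e13, Cfsg.Agent.KO945eb0c.e40, Cfsg.Agent.KO945eb0c.e41, Cfsg.Agent.KO945eb0c.e49]; decide +kernel) | decide +kernel)

theorem act_rep : ∀ i j : Fin 12, i ≠ j → act (tg tR (pn i) (pn j)) 9 = pn i ∧ act (tg tR (pn i) (pn j)) 16 = pn j := by
  decide +kernel

theorem act_mv : ∀ i j : Fin 12, i ≠ j → i ≠ 7 → i ≠ 10 → j ≠ 7 → j ≠ 10 →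
    act ((tg tM (pn i) (pn j)).flatMap sw) 12 = pn i ∧ act ((tg tM (pn i) (pn j)).flatMap sw) 13 = pn j ∧
    act ((tg tM (pn i) (pn j)).flatMap sw) 9 = 9 ∧ act ((tg tM (pn i) (pn j)).flatMap sw) 16 = 16 := by
  decide +kernel

section rep

variable {F V : Type*} [Field F] [AddCommGroup V] [Module F V] (R : Spor.M12 →* Module.End F V)

/-- the vector `v` is fixed by `gi2, gi3, gs, gr` -/
structure Fix4 (v : V) : Prop where
  i2 : R gi2 v = v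
  i3 : R gi3 v = v
  s : R gs v = v
  r : R gr v = v

variable {R}

theorem Fixd.fix4 {v : V} (h : Fixd R v) : Fix4 R v := ⟨h.i2, h.i3, h.s, h.r⟩

theorem fix_sw {v : V} (h : Fix4 R v) (w : List ℕ) : R (wd (w.flatMap sw)) v = v := by
  induction w with
  | nil => exact rone R v
  | cons k w ih =>
    rw [List.flatMap_cons, wd_append, rmul, ih]
    match k with
    | 0 => exact h.i2
    | 1 => exact h.i3
    | 2 => exact h.s
    | _ + 3 => exact h.r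

variable (R)

/-- the vectors -/
def Wv (v : V) (i j : Fin 12) : V := R (wd (tg tR (pn i) (pn j))) v

variable {R}

theorem Wv_step {v : V} (h : Fix4 R v) {g : List ℕ} {T : List (List (List ℕ))} (hT : ∀ i j, chk g T i j = true)
    {i j : Fin 12} (hij : i ≠ j) : R (wd g) (Wv R v i j) = Wv R v (pm (wd g) i) (pm (wd g) j) := by
  have h1 := hT i j
  rw [chk, Bool.or_eq_true, decide_eq_true_eq] at h1
  have h2 := wd_eq (h1.resolve_left hij)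
  rw [Wv, ← rmul, ← wd_append, h2, wd_append, rmul, fix_sw h, Wv, pn_pm, pn_pm]

theorem Wv_act {v : V} (h : Fix4 R v) (g : Spor.M12) :
    ∀ i j : Fin 12, i ≠ j → R g (Wv R v i j) = Wv R v (pm g i) (pm g j) := by
  have hg : g ∈ Subgroup.closure ({wd wX, wd wY} : Set Spor.M12) := by rw [closure_XY]; trivial
  induction hg using Subgroup.closure_induction with
  | mem g hg =>
    intro i j hij
    rcases hg with rfl | rfl
    · exact Wv_step h chk_X hij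
    · exact Wv_step h chk_Y hij
  | one => intro i j _; rw [rone, map_one]; rfl
  | mul a b _ _ ha hb =>
    intro i j hij
    rw [rmul, hb i j hij, ha _ _ (fun e => hij ((pm b).injective e)), map_mul]
    rfl
  | inv a _ ha =>
    intro i j hij
    have h1 := ha (pm a⁻¹ i) (pm a⁻¹ j) (fun e => hij ((pm a⁻¹).injective e))
    have h2 : ∀ k, pm a (pm a⁻¹ k) = k := by
      intro k
      rw [← Equiv.Perm.mul_apply, ← map_mul, mul_inv_cancel, map_one]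
      rfl
    rw [h2, h2] at h1
    rw [← h1, rinv]

theorem Wv_base (v : V) : Wv R v 7 10 = v := rone R v

/-- the stabiliser of two points is transitive on the other ordered pairs -/
theorem exists_mv {v : V} (h : Fix4 R v) {i j : Fin 12} (hij : i ≠ j) (h1 : i ≠ 7) (h2 : i ≠ 10) (h3 : j ≠ 7) (h4 : j ≠ 10) :
    ∃ g : Spor.M12, R g v = v ∧ pm g 7 = 7 ∧ pm g 10 = 10 ∧ pm g 8 = i ∧ pm g 9 = j := by
  obtain ⟨a1, a2, a3, a4⟩ := act_mv i j hij h1 h2 h3 h4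
  refine ⟨wd ((tg tM (pn i) (pn j)).flatMap sw), fix_sw h _, pn_inj _ _ ?_, pn_inj _ _ ?_, pn_inj _ _ ?_, pn_inj _ _ ?_⟩
  · rw [pn_pm]; exact a3
  · rw [pn_pm]; exact a4
  · rw [pn_pm]; exact a1
  · rw [pn_pm]; exact a2

/-- two-transitivity -/
theorem exists_rep {i j : Fin 12} (hij : i ≠ j) : ∃ g : Spor.M12, pm g 7 = i ∧ pm g 10 = j := by
  obtain ⟨a1, a2⟩ := act_rep i j hij
  refine ⟨wd (tg tR (pn i) (pn j)), pn_inj _ _ ?_, pn_inj _ _ ?_⟩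
  · rw [pn_pm]; exact a1
  · rw [pn_pm]; exact a2

end rep

end Cfsg.Agent.H36.M12

private theorem dce_b3f57e2a759f : _root_.True := by
  try have : _root_.True := by simp only [_root_.Cfsg.Agent.H36.M12.Wv.eq_1]
  try have : _root_.True := by simp only [_root_.Cfsg.Agent.H36.M12.chk.eq_1]
  try have : _root_.True := by simp only [_root_.Cfsg.Agent.H36.M12.pt.eq_1]
  exact _root_.True.intro
end

-- part: H36/M12/Coc
section
prune_inst 0x400202200000000000002000004000000000043000000400000000140000000060006200000000008102000002000000000422000000a000000000000000000000010100c00000000000800000000000000000000000000000000000000000000000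
set_option linter.all false
open scoped Cfsg.Agent.FastGrp

/-!
# The cocycle relation, characteristic three (helper36)
-/

set_option autoImplicit false
set_option maxRecDepth 100000

namespace Cfsg.Agent.H36.M12

open Module Cfsg Cfsg.Agent.H932.Mt Cfsg.Agent.CoThreeStd.MTwelve Cfsg.Agent.SporadicStructure.M11InvPerms

theorem ais (σ : Equiv.Perm (Fin 12)) (i : Fin 12) : σ (σ⁻¹ i) = i := σ.apply_symm_apply i

theorem ias (σ : Equiv.Perm (Fin 12)) (i : Fin 12) : σ⁻¹ (σ i) = i := σ.symm_apply_apply i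

theorem pm_val {l : List ℕ} {i j : Fin 12} (h : act l (pn i) = pn j) : pm (wd l) i = j :=
  pn_inj _ _ (by rw [pn_pm, h])

theorem pm_t : pm gt 7 = 7 ∧ pm gt 8 = 8 ∧ pm gt 9 = 9 ∧ pm gt 10 = 10 :=
  ⟨pm_val (by decide +kernel), pm_val (by decide +kernel), pm_val (by decide +kernel), pm_val (by decide +kernel)⟩
theorem pm_s : pm gs 7 = 7 ∧ pm gs 8 = 9 ∧ pm gs 9 = 8 ∧ pm gs 10 = 10 :=
  ⟨pm_val (by decide +kernel), pm_val (by decide +kernel), pm_val (by decide +kernel), pm_val (by decide +kernel)⟩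
theorem pm_e2 : pm ge2 7 = 10 ∧ pm ge2 8 = 9 ∧ pm ge2 9 = 8 ∧ pm ge2 10 = 7 :=
  ⟨pm_val (by decide +kernel), pm_val (by decide +kernel), pm_val (by decide +kernel), pm_val (by decide +kernel)⟩

variable {F V : Type*} [Field F] [AddCommGroup V] [Module F V] {R : Spor.M12 →* Module.End F V}

/-- the family of vectors attached to a ten-dimensional module -/
structure Fam (R : Spor.M12 →* Module.End F V) (W : Fin 12 → Fin 12 → V) : Prop where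
  add : ∀ i j k, W i j + W j k = W i k
  ne : ∀ i j, i ≠ j → W i j ≠ 0
  act : ∀ g i j, R g (W i j) = W (pm g i) (pm g j)

theorem Fam.self {W : Fin 12 → Fin 12 → V} (h : Fam R W) (i : Fin 12) : W i i = 0 := by
  have := h.add i i i
  rwa [add_eq_left] at this

theorem Fam.neg {W : Fin 12 → Fin 12 → V} (h : Fam R W) (i j : Fin 12) : W j i = -W i j := by
  rw [eq_neg_iff_add_eq_zero, h.add, h.self]

theorem exists_two (i j k l : Fin 12) (hij : i ≠ j) (hkl : k ≠ l) : ∃ g : Spor.M12, pm g i = k ∧ pm g j = l := by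
  obtain ⟨g, h1, h2⟩ := exists_rep hij
  obtain ⟨g', h3, h4⟩ := exists_rep hkl
  refine ⟨g' * g⁻¹, ?_, ?_⟩
  · rw [map_mul, map_inv, Equiv.Perm.mul_apply, ← h1, ias, h3]
  · rw [map_mul, map_inv, Equiv.Perm.mul_apply, ← h2, ias, h4]

/-- assembling a family -/
theorem fam_of {v : V} (h4 : Fix4 R v) (hv0 : v ≠ 0) (hneg : R ge2 v = -v)
    (hf : ∀ c : Fin 12, c ≠ 7 → c ≠ 10 → Wv R v 7 c + Wv R v c 10 = v) :
    Fam R (fun i j => if i = j then 0 else Wv R v i j) := by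
  have anti : ∀ i j : Fin 12, i ≠ j → Wv R v j i = -Wv R v i j := by
    intro i j hij
    obtain ⟨g, h1, h2⟩ := exists_rep hij
    have a1 := Wv_act h4 g 7 10 (by decide)
    have a2 := Wv_act h4 g 10 7 (by decide)
    have a3 := Wv_act h4 ge2 7 10 (by decide)
    rw [h1, h2, Wv_base] at a1
    rw [h1, h2] at a2
    rw [pm_e2.1, pm_e2.2.2.2, Wv_base, hneg] at a3
    rw [← a2, ← a3, map_neg, a1]
  have tri : ∀ i j k : Fin 12, i ≠ j → i ≠ k → j ≠ k → Wv R v i k + Wv R v k j = Wv R v i j := by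
    intro i j k hij hik hjk
    obtain ⟨g, h1, h2⟩ := exists_rep hij
    have hc1 : pm g⁻¹ k ≠ 7 := by
      intro e
      apply hik
      rw [← h1, ← e, map_inv, ais]
    have hc2 : pm g⁻¹ k ≠ 10 := by
      intro e
      apply hjk
      rw [← h2, ← e, map_inv, ais]
    have hk : pm g (pm g⁻¹ k) = k := by rw [map_inv, ais]
    have h3 := congrArg (R g) (hf _ hc1 hc2)
    have a1 := Wv_act h4 g 7 10 (by decide)
    rw [Wv_base, h1, h2] at a1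
    rw [map_add, Wv_act h4 g _ _ (Ne.symm hc1), Wv_act h4 g _ _ hc2, hk, h1, h2, a1] at h3
    exact h3
  constructor
  · intro i j k
    by_cases hij : i = j
    · subst hij; simp
    · by_cases hjk : j = k
      · subst hjk; simp
      · by_cases hik : i = k
        · subst hik
          simp only [if_neg hij, if_neg (Ne.symm hij), if_true]
          rw [anti _ _ hij, add_neg_cancel]
        · simp only [if_neg hij, if_neg hjk, if_neg hik]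
          exact tri i k j hik hij (Ne.symm hjk)
  · intro i j hij
    simp only [if_neg hij]
    intro h0
    obtain ⟨g, h1, h2⟩ := exists_rep hij
    have a1 := Wv_act h4 g 7 10 (by decide)
    rw [Wv_base, h1, h2, h0] at a1
    exact hv0 (rzero R g a1)
  · intro g i j
    by_cases hij : i = j
    · subst hij; simp
    · have hg : pm g i ≠ pm g j := fun e => hij ((pm g).injective e)
      simp only [if_neg hij, if_neg hg]
      exact Wv_act h4 g i j hij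

theorem exists_others : ∀ c : Fin 12, c ≠ 7 → c ≠ 10 → ∃ d e : Fin 12, d ≠ 7 ∧ d ≠ 10 ∧ e ≠ 7 ∧ e ≠ 10 ∧ c ≠ d ∧ c ≠ e ∧
    d ≠ e := by decide +kernel

/-- **The family in odd characteristic.** -/
theorem Fixd.fam [FiniteDimensional F V] (h2 : (2 : F) ≠ 0) (hirr : Irr R) (hd : finrank F V = 10) {v : V} (hv : Fixd R v) :
    Fam R (fun i j => if i = j then 0 else Wv R v i j) := by
  have h4 := hv.fix4
  have hJ := dim_s R h2 hirr hd
  have htv : R gt v = v := by rw [← i2i2, rmul, hv.i2, hv.i2]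
  have hvJ : v ∈ J (R gt) (R gs) (R ge2) 1 1 (-1) := by
    rw [mem_J, one_smul, neg_one_smul]
    exact ⟨htv, hv.s, hv.e2⟩
  have anti : ∀ i j : Fin 12, i ≠ j → Wv R v j i = -Wv R v i j := by
    intro i j hij
    obtain ⟨g, h1, h2⟩ := exists_rep hij
    have a1 := Wv_act h4 g 7 10 (by decide)
    have a2 := Wv_act h4 g 10 7 (by decide)
    have a3 := Wv_act h4 ge2 7 10 (by decide)
    rw [h1, h2, Wv_base] at a1
    rw [h1, h2] at a2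
    rw [pm_e2.1, pm_e2.2.2.2, Wv_base, hv.e2] at a3
    rw [← a2, ← a3, map_neg, a1]
  -- the vector `y`
  obtain ⟨k, hk⟩ : ∃ k : F, (Wv R v 7 8 + Wv R v 8 10) + (Wv R v 7 9 + Wv R v 9 10) = k • v := by
    refine exists_scalar hJ hvJ hv.ne ?_
    rw [mem_J, one_smul, neg_one_smul]
    obtain ⟨t7, t8, t9, t10⟩ := pm_t
    obtain ⟨s7, s8, s9, s10⟩ := pm_s
    obtain ⟨e7, e8, e9, e10⟩ := pm_e2
    refine ⟨?_, ?_, ?_⟩
    · rw [map_add, map_add, map_add, Wv_act h4 _ 7 8 (by decide), Wv_act h4 _ 8 10 (by decide),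
        Wv_act h4 _ 7 9 (by decide), Wv_act h4 _ 9 10 (by decide), t7, t8, t9, t10]
    · rw [map_add, map_add, map_add, Wv_act h4 _ 7 8 (by decide), Wv_act h4 _ 8 10 (by decide),
        Wv_act h4 _ 7 9 (by decide), Wv_act h4 _ 9 10 (by decide), s7, s8, s9, s10]
      abel
    · rw [map_add, map_add, map_add, Wv_act h4 _ 7 8 (by decide), Wv_act h4 _ 8 10 (by decide),
        Wv_act h4 _ 7 9 (by decide), Wv_act h4 _ 9 10 (by decide), e7, e8, e9, e10,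
        anti 9 10 (by decide), anti 7 9 (by decide), anti 8 10 (by decide), anti 7 8 (by decide)]
      abel
  have hsum : ∀ c d : Fin 12, c ≠ d → c ≠ 7 → c ≠ 10 → d ≠ 7 → d ≠ 10 →
      (Wv R v 7 c + Wv R v c 10) + (Wv R v 7 d + Wv R v d 10) = k • v := by
    intro c d hcd h1 h3 h5 h6
    obtain ⟨g, gv, g7, g10, g8, g9⟩ := exists_mv h4 hcd h1 h3 h5 h6
    have h7 := congrArg (R g) hk
    rw [map_smul, gv, map_add, map_add, map_add, Wv_act h4 _ 7 8 (by decide), Wv_act h4 _ 8 10 (by decide),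
        Wv_act h4 _ 7 9 (by decide), Wv_act h4 _ 9 10 (by decide), g7, g8, g9, g10] at h7
    exact h7
  obtain ⟨κ, hκ⟩ : ∃ κ : F, ∀ c : Fin 12, c ≠ 7 → c ≠ 10 → Wv R v 7 c + Wv R v c 10 = κ • v := by
    refine ⟨2⁻¹ * k, fun c h1 h3 => ?_⟩
    obtain ⟨d, e, d7, d10, e7, e10, hcd, hce, hde⟩ := exists_others c h1 h3
    have x1 := hsum c d hcd h1 h3 d7 d10
    have x2 := hsum c e hce h1 h3 e7 e10
    have x3 := hsum d e hde d7 d10 e7 e10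
    set A := Wv R v 7 c + Wv R v c 10
    set B := Wv R v 7 d + Wv R v d 10
    set C := Wv R v 7 e + Wv R v e 10
    have x4 : (2 : F) • A = k • v := by
      have : (2 : F) • A = (A + B) + (A + C) - (B + C) := by rw [two_smul]; abel
      rw [this, x1, x2, x3, add_sub_cancel_right]
    rw [mul_smul, ← x4, inv_smul_smul₀ h2]
  have tri : ∀ i j k : Fin 12, i ≠ j → i ≠ k → j ≠ k → Wv R v i k + Wv R v k j = κ • Wv R v i j := by
    intro i j k hij hik hjk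
    obtain ⟨g, h1, h2⟩ := exists_rep hij
    have hc1 : pm g⁻¹ k ≠ 7 := by
      intro e
      apply hik
      rw [← h1, ← e, map_inv, ais]
    have hc2 : pm g⁻¹ k ≠ 10 := by
      intro e
      apply hjk
      rw [← h2, ← e, map_inv, ais]
    have hk : pm g (pm g⁻¹ k) = k := by rw [map_inv, ais]
    have h3 := congrArg (R g) (hκ _ hc1 hc2)
    have a1 := Wv_act h4 g 7 10 (by decide)
    rw [Wv_base, h1, h2] at a1
    rw [map_add, Wv_act h4 g _ _ (Ne.symm hc1), Wv_act h4 g _ _ hc2, hk, h1, h2, map_smul, a1] at h3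
    exact h3
  have κ1 : κ = 1 := by
    by_contra hne
    have q : ∀ i j k : Fin 12, i ≠ j → i ≠ k → j ≠ k → Wv R v i j = -Wv R v i k := by
      intro i j k hij hik hjk
      have y1 := tri i j k hij hik hjk
      have y2 := tri i k j hik hij (Ne.symm hjk)
      have y3 := anti j k hjk
      rw [y3] at y1
      have y4 : (κ - 1) • (Wv R v i j + Wv R v i k) = 0 := by
        rw [sub_smul, one_smul, smul_add, ← y1, ← y2]
        abel
      rw [eq_neg_iff_add_eq_zero]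
      exact (smul_eq_zero.1 y4).resolve_left (sub_ne_zero.2 hne)
    have z1 := q 7 10 8 (by decide) (by decide) (by decide)
    have z2 := q 7 8 9 (by decide) (by decide) (by decide)
    have z3 := q 7 9 10 (by decide) (by decide) (by decide)
    rw [z2, z3, neg_neg, Wv_base] at z1
    have h6 : (2 : F) • v = 0 := by
      rw [two_smul]
      nth_rewrite 1 [z1]
      exact neg_add_cancel v
    exact hv.ne ((smul_eq_zero.1 h6).resolve_left h2)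
  refine fam_of h4 hv.ne hv.e2 fun c h1 h3 => ?_
  rw [hκ c h1 h3, κ1, one_smul]

/-- a function on the twelve points which is multiplied by scalars is constant -/
theorem const_of {c : Fin 12 → F} (h : ∀ g : Spor.M12, ∃ l : F, ∀ i, c (pm g i) = l * c i) : ∀ i j, c i = c j := by
  by_cases hc : c = 0
  · intro i j; rw [hc]; rfl
  have hs := Cfsg.Agent.Schreier.MTwelve.isSimpleGroup
  have hall : ∀ g : Spor.M12, ∀ i, c (pm g i) = c i := by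
    let N : Subgroup Spor.M12 :=
      { carrier := {g | ∀ i, c (pm g i) = c i}
        one_mem' := fun i => by rw [map_one]; rfl
        mul_mem' := fun {a b} ha hb i => by
          rw [map_mul, Equiv.Perm.mul_apply, ha, hb]
        inv_mem' := fun {a} ha i => by
          rw [map_inv, ← ha ((pm a)⁻¹ i), ais] }
    have hN : N.Normal := ⟨fun a ha g i => by
      obtain ⟨l, hl⟩ := h g
      rw [map_mul, map_mul, map_inv, Equiv.Perm.mul_apply, Equiv.Perm.mul_apply, hl, ha, ← hl,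
        ais]⟩
    rcases hs.eq_bot_or_eq_top_of_normal N hN with h1 | h1
    · exfalso
      apply Cfsg.Agent.Schreier.MTwelve.not_isMulCommutative
      have h2 : ∀ a b : Spor.M12, a * b * (b * a)⁻¹ ∈ N := by
        intro a b i
        obtain ⟨l, hl⟩ := h a
        obtain ⟨m, hm⟩ := h b
        have e1 : ∀ i, c (pm (a * b) i) = l * m * c i := fun i => by
          rw [map_mul, Equiv.Perm.mul_apply, hl, hm, mul_assoc]
        have e2 : ∀ i, c (pm (b * a) i) = l * m * c i := fun i => by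
          rw [map_mul, Equiv.Perm.mul_apply, hm, hl]; ring
        rw [map_mul, map_inv, Equiv.Perm.mul_apply, e1, ← e2, ais]
      refine ⟨⟨fun a b => ?_⟩⟩
      have h3 := h2 a b
      rw [h1, Subgroup.mem_bot, mul_inv_eq_one] at h3
      exact h3
    · intro g
      have : g ∈ N := by rw [h1]; trivial
      exact this
  intro i j
  by_cases hij : i = j
  · rw [hij]
  · obtain ⟨g, h1, -⟩ := exists_two i j j i hij (Ne.symm hij)
    rw [← h1, hall]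

/-- the characteristic divides twelve -/
theorem Fam.twelve [FiniteDimensional F V] (hirr : Irr R) (hd : finrank F V = 10) {W : Fin 12 → Fin 12 → V} (h : Fam R W) :
    (12 : F) = 0 := by
  classical
  -- the vectors span
  have hspan : Submodule.span F (Set.range fun i => W 7 i) = ⊤ := by
    refine (hirr _ ?_).resolve_left ?_
    · intro g u hu
      induction hu using Submodule.span_induction with
      | mem x hx =>
        obtain ⟨i, rfl⟩ := hx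
        rw [h.act, ← h.add (pm g 7) 7 (pm g i)]
        refine Submodule.add_mem _ ?_ (Submodule.subset_span ⟨_, rfl⟩)
        rw [h.neg 7]
        exact Submodule.neg_mem _ (Submodule.subset_span ⟨_, rfl⟩)
      | zero => rw [map_zero]; exact Submodule.zero_mem _
      | add x y _ _ hx hy => rw [map_add]; exact Submodule.add_mem _ hx hy
      | smul a x _ hx => rw [map_smul]; exact Submodule.smul_mem _ _ hx
    · intro h0
      apply h.ne 7 10 (by decide)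
      have : W 7 10 ∈ Submodule.span F (Set.range fun i => W 7 i) := Submodule.subset_span ⟨10, rfl⟩
      rwa [h0, Submodule.mem_bot] at this
  -- the relations
  let Φ : (Fin 12 → F) →ₗ[F] V × F :=
    (Fintype.linearCombination F (fun i => W 7 i)).prod (Fintype.linearCombination F (fun _ => (1 : F)))
  have hΦ : ∀ c, Φ c = (∑ i, c i • W 7 i, ∑ i, c i) := by
    intro c
    have e2 : (Fintype.linearCombination F (fun _ => (1 : F))) c = ∑ i, c i := by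
      rw [Fintype.linearCombination_apply]
      exact Finset.sum_congr rfl fun i _ => by rw [smul_eq_mul, mul_one]
    show (_, _) = _
    rw [Fintype.linearCombination_apply, e2]
  have hsurj : LinearMap.range Φ = ⊤ := by
    rw [eq_top_iff]
    have e0 : ((0 : V), (1 : F)) ∈ LinearMap.range Φ := by
      refine ⟨Pi.single 7 1, ?_⟩
      rw [hΦ]
      congr 1
      · rw [Finset.sum_eq_single 7]
        · rw [Pi.single_eq_same, one_smul, h.self]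
        · intro b _ hb; rw [Pi.single_eq_of_ne hb, zero_smul]
        · intro h1; exact absurd (Finset.mem_univ _) h1
      · rw [Finset.sum_pi_single']; simp
    have e1 : ∀ w : V, (w, (0 : F)) ∈ LinearMap.range Φ := by
      intro w
      have hw : w ∈ Submodule.span F (Set.range fun i => W 7 i) := by rw [hspan]; trivial
      induction hw using Submodule.span_induction with
      | mem x hx =>
        obtain ⟨i, rfl⟩ := hx
        have e3 : (W 7 i, (1 : F)) ∈ LinearMap.range Φ := by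
          refine ⟨Pi.single i 1, ?_⟩
          rw [hΦ]
          congr 1
          · rw [Finset.sum_eq_single i]
            · rw [Pi.single_eq_same, one_smul]
            · intro b _ hb; rw [Pi.single_eq_of_ne hb, zero_smul]
            · intro h1; exact absurd (Finset.mem_univ _) h1
          · rw [Finset.sum_pi_single']; simp
        have e4 := Submodule.sub_mem _ e3 e0
        simpa using e4
      | zero => exact Submodule.zero_mem _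
      | add x y _ _ hx hy => simpa using Submodule.add_mem _ hx hy
      | smul a x _ hx => simpa using Submodule.smul_mem _ a hx
    rintro ⟨w, a⟩ -
    have := Submodule.add_mem _ (e1 w) (Submodule.smul_mem _ a e0)
    simpa using this
  have hker : finrank F (LinearMap.ker Φ) = 1 := by
    have h1 := LinearMap.finrank_range_add_finrank_ker Φ
    rw [hsurj, finrank_top, Module.finrank_prod, hd, Module.finrank_self, Module.finrank_fintype_fun_eq_card,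
      Fintype.card_fin] at h1
    omega
  obtain ⟨⟨c, hc⟩, hc0⟩ := (finrank_pos_iff_exists_ne_zero (R := F) (M := LinearMap.ker Φ)).1 (by rw [hker]; norm_num)
  have hc0' : c ≠ 0 := fun e => hc0 (Subtype.ext e)
  have hcc := hc
  rw [LinearMap.mem_ker, hΦ, Prod.mk_eq_zero] at hcc
  have hconst := const_of (F := F) (c := c) (fun g => by
    have hmem : (fun i => c (pm g i)) ∈ LinearMap.ker Φ := by
      rw [LinearMap.mem_ker, hΦ, Prod.mk_eq_zero]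
      have e1 : ∑ i, c (pm g i) = 0 := by
        rw [← hcc.2]
        exact Equiv.sum_comp (pm g) c
      refine ⟨?_, e1⟩
      -- apply `g`
      apply rinj R g
      rw [map_zero, map_sum]
      have e2 : ∀ i, R g (c (pm g i) • W 7 i) = c (pm g i) • W (pm g 7) 7 + c (pm g i) • W 7 (pm g i) := by
        intro i
        rw [map_smul, h.act, ← h.add (pm g 7) 7 (pm g i), smul_add]
      rw [Finset.sum_congr rfl fun i _ => e2 i, Finset.sum_add_distrib, ← Finset.sum_smul, e1, zero_smul, zero_add]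
      rw [← hcc.1]
      exact Equiv.sum_comp (pm g) (fun i => c i • W 7 i)
    obtain ⟨l, hl⟩ := exists_scalar hker hc hc0' hmem
    exact ⟨l, fun i => by
      have := congrFun hl i
      simpa using this⟩)
  have h1 : c 0 ≠ 0 := by
    intro h0
    apply hc0'
    funext i
    rw [hconst i 0, h0]
    rfl
  have h3 := hcc.2
  rw [Finset.sum_congr rfl fun i _ => hconst i 0, Finset.sum_const, Finset.card_univ, Fintype.card_fin,
    nsmul_eq_mul] at h3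
  have h5 := (mul_eq_zero.1 h3).resolve_right h1
  exact_mod_cast h5

end Cfsg.Agent.H36.M12
end

-- part: H36/M12/TwoWords
section
set_option linter.all false
open scoped Cfsg.Agent.FastGrp

/-!
# More elements of `M₁₂`, for characteristic two (helper36)

`gh1, gh2` generate the Sylow 3-subgroup `E` of the stabiliser of the points `9, 16, 12`; `grho` permutes `9, 16, 12`
cyclically; `gs1` exchanges `9, 16`.
-/

set_option autoImplicit false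
set_option maxRecDepth 100000

namespace Cfsg.Agent.H36.M12

open Module Cfsg Cfsg.Agent.CoThreeStd.MTwelve Cfsg.Agent.SporadicStructure.M11InvPerms

/-- word -/
def wh1 : List ℕ := [0,5,0,5,4,2,3,1,5,0]
/-- word -/
def wh2 : List ℕ := [3,1,5,3,4,1,2,3,1,0]
/-- word -/
def wrho : List ℕ := [4,5,4,5,3,2,5,3,1]
/-- word -/
def ws1 : List ℕ := [5,4,1,2,1,0,5,3,0]

/-- `h₁` of order 3 -/
def gh1 : Spor.M12 := wd wh1
/-- `h₂` of order 3 -/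
def gh2 : Spor.M12 := wd wh2
/-- `ρ` of order 3 -/
def grho : Spor.M12 := wd wrho
/-- the involution `s₁` -/
def gs1 : Spor.M12 := wd ws1

theorem h1h1h1 : gh1 * gh1 * gh1 = 1 := by
  show wd wh1 * wd wh1 * wd wh1 = wd []
  simp only [← wd_append]; exact wd_eq (by decide +kernel)
theorem h2h2h2 : gh2 * gh2 * gh2 = 1 := by
  show wd wh2 * wd wh2 * wd wh2 = wd []
  simp only [← wd_append]; exact wd_eq (by decide +kernel)
theorem h1h2 : gh1 * gh2 = gh2 * gh1 := w2 (by decide +kernel)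
theorem i2h1 : gi2 * gh1 = gh2 * gi2 := w2 (by decide +kernel)
theorem i2h2 : gi2 * gh2 = gh1 * gh1 * gi2 := w23 (by decide +kernel)
theorem i3h1 : gi3 * gh1 = gh1 * gh1 * gh2 * gi3 := by
  show wd _ * wd _ = wd wh1 * wd wh1 * wd wh2 * wd wi3
  simp only [← wd_append]; exact wd_eq (by decide +kernel)
theorem i3h2 : gi3 * gh2 = gh1 * gh2 * gi3 := w23 (by decide +kernel)
theorem th1 : gt * gh1 = gh1 * gh1 * gt := w23 (by decide +kernel)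
theorem th2 : gt * gh2 = gh2 * gh2 * gt := w23 (by decide +kernel)
theorem rhoh1 : grho * gh1 = gh1 * grho := w2 (by decide +kernel)
theorem rhoh2 : grho * gh2 = gh1 * gh2 * grho := w23 (by decide +kernel)
theorem s1h1 : gs1 * gh1 = gh1 * gs1 := w2 (by decide +kernel)
theorem s1h2 : gs1 * gh2 = gh2 * gh2 * gh1 * gh1 * gs1 := by
  show wd _ * wd _ = wd wh2 * wd wh2 * wd wh1 * wd wh1 * wd ws1
  simp only [← wd_append]; exact wd_eq (by decide +kernel)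
theorem i2i3i2 : gi2 * (gi3 * gi2) = gi3 := by
  show wd wi2 * (wd wi3 * wd wi2) = wd wi3
  simp only [← wd_append]; exact wd_eq (by decide +kernel)
theorem rhoi2 : grho * gi2 = gi3 * gi2 * grho := w23 (by decide +kernel)
theorem rhoi3i2 : grho * (gi3 * gi2) = gi3 * grho := by
  show wd wrho * (wd wi3 * wd wi2) = wd wi3 * wd wrho
  simp only [← wd_append]; exact wd_eq (by decide +kernel)
theorem s1i2 : gs1 * gi2 = gt * (gi3 * gi2) * gs1 := by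
  show wd ws1 * wd wi2 = wd wt * (wd wi3 * wd wi2) * wd ws1
  simp only [← wd_append]; exact wd_eq (by decide +kernel)
theorem s1i3i2 : gs1 * (gi3 * gi2) = gt * gi2 * gs1 := by
  show wd ws1 * (wd wi3 * wd wi2) = wd wt * wd wi2 * wd ws1
  simp only [← wd_append]; exact wd_eq (by decide +kernel)
theorem s1s1 : gs1 * gs1 = 1 := w21 (c := []) (by decide +kernel)
theorem rhorhorho : grho * grho * grho = 1 := by
  show wd wrho * wd wrho * wd wrho = wd []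
  simp only [← wd_append]; exact wd_eq (by decide +kernel)
theorem s1rho : gs1 * grho = grho * grho * gs1 := w23 (by decide +kernel)

theorem h1_ne : gh1 ≠ 1 := wd_ne (l' := []) 0 (by norm_num) (by decide +kernel)

/-- letters of the stabiliser of two points -/
def kw : ℕ → List ℕ
  | 0 => wh1
  | 1 => wh2
  | 2 => wi2
  | 3 => wi3
  | _ => ws

/-- letters of `M₁₂` -/
def mw : ℕ → List ℕ
  | 0 => wi2
  | 1 => wi3
  | 2 => ws
  | 3 => wr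
  | _ => wrho

theorem r_word : gr = wd (([0,4,0,0,3] : List ℕ).flatMap kw) := wd_eq (by decide +kernel)
theorem X_word : wd wX = wd (([0,4,3,4,0,3,4,2] : List ℕ).flatMap mw) := wd_eq (by decide +kernel)
theorem Y_word : wd wY = wd (([0,2,3,4,2,0,3,4,2] : List ℕ).flatMap mw) := wd_eq (by decide +kernel)
theorem h1e2 : gh1 * ge2 = ge2 * wd (([0,4,0] : List ℕ).flatMap kw) := w2 (by decide +kernel)
theorem h2e2 : gh2 * ge2 = ge2 * wd (([4,1,0,4] : List ℕ).flatMap kw) := w2 (by decide +kernel)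
theorem i2e2' : gi2 * ge2 = ge2 * wd (([2,2,2] : List ℕ).flatMap kw) := w2 (by decide +kernel)
theorem i3e2' : gi3 * ge2 = ge2 * wd (([3] : List ℕ).flatMap kw) := w2 (by decide +kernel)
theorem se2' : gs * ge2 = ge2 * wd (([4] : List ℕ).flatMap kw) := w2 (by decide +kernel)
theorem s1_word : gs1 = ge2 * wd (([2,2,4] : List ℕ).flatMap kw) := by
  show wd ws1 = wd we2 * wd _
  rw [← wd_append]; exact wd_eq (by decide +kernel)

/-- the elements of `E` -/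
def Ei : List (List ℕ) := [[], [3,1,5,3,4,1,2,3,1,0], [3,4,1,2,3,1,0,5,3,1], [0,5,0,5,4,2,3,1,5,0],
  [5,0,5,4,2,5,3,1], [3,1,0,5,3,4,1,2,5,0], [0,5,3,4,1,2,5,0,5,0], [0,5,4,2,3,1,5,3,1,0], [5,4,2,5,3,1,0,5]]

/-- representatives of the cosets of the stabiliser of `9, 16, 12` -/
def Rp : List (List ℕ) := [] :: Ei.map (· ++ ws)

theorem E00 : wd (Ei.getD 0 []) = 1 := rfl
theorem E01 : wd (Ei.getD 1 []) = gh2 := rfl
theorem E02 : wd (Ei.getD 2 []) = gh2 * gh2 := (w21 (by decide +kernel)).symm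
theorem E10 : wd (Ei.getD 3 []) = gh1 := rfl
theorem E11 : wd (Ei.getD 4 []) = gh1 * gh2 := (w21 (by decide +kernel)).symm
theorem E12 : wd (Ei.getD 5 []) = gh1 * (gh2 * gh2) := by
  show wd _ = wd wh1 * (wd wh2 * wd wh2)
  simp only [← wd_append]; exact wd_eq (by decide +kernel)
theorem E20 : wd (Ei.getD 6 []) = gh1 * gh1 := (w21 (by decide +kernel)).symm
theorem E21 : wd (Ei.getD 7 []) = gh1 * gh1 * gh2 := by
  show wd _ = wd wh1 * wd wh1 * wd wh2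
  simp only [← wd_append]; exact wd_eq (by decide +kernel)
theorem E22 : wd (Ei.getD 8 []) = gh1 * gh1 * (gh2 * gh2) := by
  show wd _ = wd wh1 * wd wh1 * (wd wh2 * wd wh2)
  simp only [← wd_append]; exact wd_eq (by decide +kernel)

/-- the action of the letters on the representatives -/
def tK : List (List (ℕ × List ℕ)) := [
  [(0, [0]), (4, []), (5, []), (6, []), (7, []), (8, []), (9, []), (1, []), (2, []), (3, [])],
  [(0, [1]), (2, []), (3, []), (1, []), (5, []), (6, []), (4, []), (8, []), (9, []), (7, [])],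
  [(0, [2]), (1, [3, 2]), (7, [3, 2]), (4, [3, 2]), (2, [3, 2]), (8, [3, 2]), (5, [3, 2]), (3, [3, 2]),
    (9, [3, 2]), (6, [3, 2])],
  [(0, [3]), (1, [3, 2, 2]), (5, [3, 2, 2]), (9, [3, 2, 2]), (8, [3, 2, 2]), (3, [3, 2, 2]), (4, [3, 2, 2]),
    (6, [3, 2, 2]), (7, [3, 2, 2]), (2, [3, 2, 2])],
  [(1, []), (0, []), (9, [2, 2, 1, 3]), (5, [1, 3, 2, 2]), (7, [0, 0]), (3, [3, 1, 1]), (6, [3, 0, 3]), (4, [0]),
    (8, [0, 2, 2, 1]), (2, [3, 1])]]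

/-- entry -/
def tKe (k i : ℕ) : ℕ × List ℕ := (tK.getD k []).getD i (0, [])

theorem chk_K : ∀ (k : Fin 5) (i : Fin 10), (tKe k i).1 < 10 ∧ ((tKe k i).2.all fun m => decide (m < 4)) = true ∧
    eqW (kw k ++ Rp.getD i []) (Rp.getD (tKe k i).1 [] ++ (tKe k i).2.flatMap kw) = true := by decide +kernel

theorem chk_s : ∀ i : Fin 10, i ≠ 1 → (tKe 4 i).1 ≠ 0 := by decide +kernel

end Cfsg.Agent.H36.M12
end

-- part: H36/M12/TwoLin
section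
set_option linter.all false
open scoped Cfsg.Agent.FastGrp

/-!
# Linear algebra in characteristic two (helper36)

* `two_dim` : a quaternion-like configuration acts trivially on a two-dimensional space;
* `split_idem` : splitting by an idempotent.
-/

set_option autoImplicit false
set_option linter.unusedSectionVars false

namespace Cfsg.Agent.H36.M12

open Module

variable {F T : Type*} [Field F] [AddCommGroup T] [Module F T]

theorem dbl (c2 : (2 : F) = 0) (v : T) : v + v = 0 := by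
  rw [← two_smul F, c2, zero_smul]

theorem neg_self (c2 : (2 : F) = 0) (v : T) : -v = v := by
  rw [neg_eq_iff_add_eq_zero]; exact dbl c2 v

/-- splitting by an idempotent -/
theorem split_idem [FiniteDimensional F T] (W : Submodule F T) (P : Module.End F T) (hP : ∀ v, P (P v) = P v)
    (hW : ∀ v ∈ W, P v ∈ W) :
    finrank F W = finrank F (W ⊓ LinearMap.ker P : Submodule F T) + finrank F (W ⊓ LinearMap.ker (P - 1) : Submodule F T) := by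
  have h1 : (W ⊓ LinearMap.ker P) ⊔ (W ⊓ LinearMap.ker (P - 1)) = W := by
    apply le_antisymm (sup_le inf_le_left inf_le_left)
    intro v hv
    rw [Submodule.mem_sup]
    refine ⟨v - P v, ⟨W.sub_mem hv (hW v hv), ?_⟩, P v, ⟨hW v hv, ?_⟩, by abel⟩
    · rw [SetLike.mem_coe, LinearMap.mem_ker, map_sub, hP, sub_self]
    · rw [SetLike.mem_coe, LinearMap.mem_ker, LinearMap.sub_apply, hP, Module.End.one_apply, sub_self]
  have h2 : (W ⊓ LinearMap.ker P) ⊓ (W ⊓ LinearMap.ker (P - 1)) = ⊥ := by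
    rw [eq_bot_iff]
    rintro v ⟨⟨_, h3⟩, ⟨_, h4⟩⟩
    rw [SetLike.mem_coe, LinearMap.mem_ker] at h3 h4
    rw [LinearMap.sub_apply, h3, Module.End.one_apply, zero_sub, neg_eq_zero] at h4
    exact h4
  have h3 := Submodule.finrank_sup_add_finrank_inf_eq (W ⊓ LinearMap.ker P) (W ⊓ LinearMap.ker (P - 1))
  rw [h1, h2, finrank_bot, add_zero] at h3
  exact h3

/-- **Two-dimensional spaces.** -/
theorem two_dim (hT : finrank F T = 2) (c2 : (2 : F) = 0) (A B P S : Module.End F T)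
    (hP : ∀ v, P v = 0 → v = 0) (hS : ∀ v, S v = 0 → v = 0) (hA4 : A * A * (A * A) = 1) (hAB2 : B * B = A * A)
    (hBA : B * A = A * A * (A * B)) (hPA : P * A = B * P) (hPB : P * B = A * B * P)
    (hSA : S * A = A * A * B * S) (hSB : S * B = A * A * A * S) : A = 1 ∧ B = 1 := by
  have hfin : FiniteDimensional F T := FiniteDimensional.of_finrank_pos (by rw [hT]; norm_num)
  have d : ∀ X : Module.End F T, X + X = 0 := fun X => dbl c2 X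
  have sq : ∀ X : Module.End F T, (X + 1) * (X + 1) = X * X + 1 := by
    intro X
    have : (X + 1) * (X + 1) = X * X + 1 + (X + X) := by noncomm_ring
    rw [this, d, add_zero]
  have nil : ∀ X : Module.End F T, X * X * (X * X) = 1 → X * X = 1 := by
    intro X hX
    have h1 : (X + 1) ^ 4 = 0 := by
      rw [show (4 : ℕ) = 2 * 2 by norm_num, pow_mul, pow_two (X + 1), sq, pow_two, sq, hX]
      exact d 1
    have h2 : (X + 1) ^ 2 = 0 := by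
      have h3 := Module.End.ker_pow_le_ker_pow_finrank (X + 1) 4
      rw [h1, hT] at h3
      apply LinearMap.ext
      intro v
      have : v ∈ LinearMap.ker (0 : Module.End F T) := by simp
      exact h3 this
    rw [pow_two, sq] at h2
    have h3 : X * X = -1 := eq_neg_of_add_eq_zero_left h2
    rw [h3]
    exact neg_self c2 (1 : Module.End F T)
  have A2 : A * A = 1 := nil A hA4
  rw [A2] at hAB2
  rw [A2, one_mul] at hBA hSA hSB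
  have key : A = 1 := by
    by_contra hne
    -- `N₁ = A + 1`, `N₂ = B + 1`
    have hN1 : (A + 1) * (A + 1) = 0 := by rw [sq, A2]; exact d 1
    have hN2 : (B + 1) * (B + 1) = 0 := by rw [sq, hAB2]; exact d 1
    have hcomm : (A + 1) * (B + 1) = (B + 1) * (A + 1) := by
      have : (A + 1) * (B + 1) - (B + 1) * (A + 1) = A * B - B * A := by noncomm_ring
      rw [← sub_eq_zero, this, hBA, sub_self]
    obtain ⟨x, hx⟩ : ∃ x, (A + 1) x ≠ 0 := by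
      by_contra hcon
      push Not at hcon
      apply hne
      apply LinearMap.ext
      intro v
      have h1 := hcon v
      rw [LinearMap.add_apply, Module.End.one_apply] at h1
      rw [Module.End.one_apply, eq_neg_of_add_eq_zero_left h1]
      exact neg_self c2 v
    set y := (A + 1) x with hy
    have h1y : (A + 1) y = 0 := by rw [hy, ← Module.End.mul_apply, hN1, LinearMap.zero_apply]
    -- `x, y` is a basis
    have hli : LinearIndependent F ![x, y] := by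
      rw [LinearIndependent.pair_iff]
      intro a b hab
      have h3 := congrArg (A + 1 : Module.End F T) hab
      rw [map_add, map_smul, map_smul, h1y, smul_zero, add_zero, map_zero] at h3
      have ha : a = 0 := (smul_eq_zero.1 h3).resolve_right hx
      rw [ha, zero_smul, zero_add] at hab
      exact ⟨ha, (smul_eq_zero.1 hab).resolve_right hx⟩
    have hsp : ∀ z : T, ∃ a b : F, z = a • x + b • y := by
      intro z
      have h4 := hli.span_eq_top_of_card_eq_finrank (by rw [hT]; rfl)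
      have hz : z ∈ Submodule.span F (Set.range ![x, y]) := by rw [h4]; trivial
      have h5 : Set.range ![x, y] = {x, y} := by
        ext w
        simp only [Set.mem_range, Set.mem_insert_iff, Set.mem_singleton_iff]
        constructor
        · rintro ⟨i, rfl⟩
          fin_cases i
          · exact Or.inl rfl
          · exact Or.inr rfl
        · rintro (rfl | rfl)
          · exact ⟨0, rfl⟩
          · exact ⟨1, rfl⟩
      rw [h5, Submodule.mem_span_pair] at hz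
      obtain ⟨a, b, h6⟩ := hz
      exact ⟨a, b, h6.symm⟩
    obtain ⟨α, β, hβ⟩ := hsp ((B + 1) x)
    have hBy : (B + 1) y = α • y := by
      rw [hy, ← Module.End.mul_apply, ← hcomm, Module.End.mul_apply, hβ, map_add, map_smul, map_smul, h1y,
        smul_zero, add_zero]
    have hα : α = 0 := by
      have h3 : ((B + 1) * (B + 1)) y = 0 := by rw [hN2, LinearMap.zero_apply]
      rw [Module.End.mul_apply, hBy, map_smul, hBy, smul_smul] at h3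
      exact mul_self_eq_zero.1 ((smul_eq_zero.1 h3).resolve_right hx)
    rw [hα, zero_smul] at hBy
    rw [hα, zero_smul, zero_add] at hβ
    have hN : ∀ z, (B + 1) z = β • (A + 1) z := by
      intro z
      obtain ⟨a, b, rfl⟩ := hsp z
      rw [map_add, map_smul, map_smul, hβ, hBy, smul_zero, add_zero, map_add, map_smul, map_smul, h1y, smul_zero,
        add_zero, ← hy, smul_comm]
    have hN3 : ∀ z, (A * B + 1) z = (1 + β) • (A + 1) z := by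
      intro z
      have h3 : (A * B + 1 : Module.End F T) = (A + 1) * (B + 1) + (A + 1) + (B + 1) := by
        have : (A + 1) * (B + 1) + (A + 1) + (B + 1) = A * B + 1 + (A + A) + (B + B) + (1 + 1) := by noncomm_ring
        rw [this, d, d, d]; simp
      rw [h3, LinearMap.add_apply, LinearMap.add_apply, Module.End.mul_apply, hN, map_smul, ← Module.End.mul_apply (A + 1) (A + 1),
        hN1, LinearMap.zero_apply, smul_zero, zero_add, add_smul, one_smul]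
    -- `P`
    have p1 : P ((A + 1) x) = β • (A + 1) (P x) := by
      rw [← hN, ← Module.End.mul_apply, ← Module.End.mul_apply, mul_add, add_mul, hPA, mul_one, one_mul]
    have p2 : P ((B + 1) x) = (1 + β) • (A + 1) (P x) := by
      rw [← hN3, ← Module.End.mul_apply, ← Module.End.mul_apply, mul_add, add_mul, hPB, mul_one, one_mul]
    rw [hN, map_smul, p1, smul_smul] at p2
    have hg : (A + 1) (P x) ≠ 0 := by
      intro h0
      rw [h0, smul_zero] at p1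
      exact hx (hP _ p1)
    have q1 : β * β = 1 + β := by
      have h3 : (β * β - (1 + β)) • (A + 1) (P x) = 0 := by rw [sub_smul, p2, sub_self]
      exact sub_eq_zero.1 ((smul_eq_zero.1 h3).resolve_right hg)
    -- `S`
    have s1 : S ((A + 1) x) = β • (A + 1) (S x) := by
      rw [← hN, ← Module.End.mul_apply, ← Module.End.mul_apply, mul_add, add_mul, hSA, mul_one, one_mul]
    have s2 : S ((B + 1) x) = (A + 1) (S x) := by
      rw [← Module.End.mul_apply, ← Module.End.mul_apply, mul_add, add_mul, hSB, mul_one, one_mul]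
    rw [hN, map_smul, s1, smul_smul] at s2
    have hg' : (A + 1) (S x) ≠ 0 := by
      intro h0
      rw [h0, smul_zero] at s1
      exact hx (hS _ s1)
    have q2 : β * β = 1 := by
      have h3 : (β * β - 1) • (A + 1) (S x) = 0 := by rw [sub_smul, s2, one_smul, sub_self]
      exact sub_eq_zero.1 ((smul_eq_zero.1 h3).resolve_right hg')
    have q3 : β = 0 := by linear_combination q2 - q1
    rw [q3, mul_zero] at q2
    exact zero_ne_one q2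
  refine ⟨key, ?_⟩
  -- `B = P A P⁻¹`
  have hinj : Function.Injective P := by
    rw [← LinearMap.ker_eq_bot, LinearMap.ker_eq_bot']
    exact hP
  have hsurj : Function.Surjective P := LinearMap.injective_iff_surjective.1 hinj
  apply LinearMap.ext
  intro v
  obtain ⟨w, rfl⟩ := hsurj v
  rw [← Module.End.mul_apply, ← hPA, key, mul_one]
  rfl

end Cfsg.Agent.H36.M12
end

-- part: H36/M12/Two
section
prune_inst 0x14004400022000000000004020000040000010000400000400002000200c2000000000004a00000000008002000002000000000424000000e00000000010020802b000200100904000001000080000000000000000000000000000000000000000000000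
set_option linter.all false
open scoped Cfsg.Agent.FastGrp

/-!
# Ten-dimensional modules of `M₁₂` in characteristic two (helper36)
-/

set_option autoImplicit false
set_option maxRecDepth 100000
set_option linter.unusedSectionVars false

namespace Cfsg.Agent.H36.M12

open Module Cfsg Cfsg.Agent.H932.Mt Cfsg.Agent.CoThreeStd.MTwelve Cfsg.Agent.SporadicStructure.M11InvPerms

variable {F V : Type*} [Field F] [AddCommGroup V] [Module F V] [FiniteDimensional F V]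

section

variable (R : Spor.M12 →* Module.End F V)

/-- sum over the powers -/
def tri3 (g : Spor.M12) : Module.End F V := 1 + R g + R g * R g

theorem tri3_apply (g : Spor.M12) (v : V) : tri3 R g v = v + R g v + R g (R g v) := rfl

theorem cube {g : Spor.M12} (hg : g * g * g = 1) (v : V) : R g (R g (R g v)) = v := by
  rw [← rmul, ← rmul, hg, rone]

theorem tri3_fix {g : Spor.M12} (hg : g * g * g = 1) (v : V) : R g (tri3 R g v) = tri3 R g v := by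
  rw [tri3_apply, map_add, map_add, cube R hg]; abel

theorem tri3_of_fix (c2 : (2 : F) = 0) {g : Spor.M12} {v : V} (h : R g v = v) : tri3 R g v = v := by
  rw [tri3_apply, h, h, dbl c2, zero_add]

theorem tri3_idem (c2 : (2 : F) = 0) {g : Spor.M12} (hg : g * g * g = 1) (v : V) :
    tri3 R g (tri3 R g v) = tri3 R g v := tri3_of_fix R c2 (tri3_fix R hg v)

theorem fix_of_tri3 {g : Spor.M12} (hg : g * g * g = 1) {v : V} (h : tri3 R g v = v) : R g v = v := by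
  rw [← h, tri3_fix R hg]

theorem ker_sub_one (c2 : (2 : F) = 0) {g : Spor.M12} (hg : g * g * g = 1) : LinearMap.ker (tri3 R g - 1) = es (R g) 1 := by
  ext v
  rw [LinearMap.mem_ker, LinearMap.sub_apply, sub_eq_zero, Module.End.one_apply, mem_es_one]
  exact ⟨fix_of_tri3 R hg, tri3_of_fix R c2⟩

theorem tri3_comm {g h : Spor.M12} (e : g * h = h * g) (v : V) : R h (tri3 R g v) = tri3 R g (R h v) := by
  rw [tri3_apply, tri3_apply, map_add, map_add, ← rel R e v, ← rel R e (R g v), ← rel R e v]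

theorem tri3_comm' {g h : Spor.M12} (e : g * h = h * g) (v : V) : tri3 R g (tri3 R h v) = tri3 R h (tri3 R g v) := by
  rw [tri3_apply R h, map_add, map_add, ← tri3_comm R e, ← tri3_comm R e, ← tri3_comm R e, ← tri3_apply R h]

/-- the sum over `E` -/
def ee : Module.End F V := tri3 R gh1 * tri3 R gh2

theorem ee_apply (v : V) : ee R v = tri3 R gh1 (tri3 R gh2 v) := rfl

theorem ee_apply' (v : V) : ee R v = tri3 R gh2 (tri3 R gh1 v) := tri3_comm' R h1h2 v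

/-- the fixed space of `E` -/
def TT : Submodule F V := es (R gh1) 1 ⊓ es (R gh2) 1

theorem mem_TT {v : V} : v ∈ TT R ↔ R gh1 v = v ∧ R gh2 v = v := by
  rw [TT, Submodule.mem_inf, mem_es_one, mem_es_one]

theorem ee_mem (v : V) : ee R v ∈ TT R := by
  rw [mem_TT]
  exact ⟨by rw [ee_apply, tri3_fix R h1h1h1], by rw [ee_apply', tri3_fix R h2h2h2]⟩

theorem ee_of_mem (c2 : (2 : F) = 0) {v : V} (h : v ∈ TT R) : ee R v = v := by
  rw [mem_TT] at h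
  rw [ee_apply, tri3_of_fix R c2 h.2, tri3_of_fix R c2 h.1]

theorem ee_h1 (v : V) : ee R (R gh1 v) = ee R v := by
  have : tri3 R gh1 (R gh1 v) = tri3 R gh1 v := by
    rw [← tri3_comm R (rfl : gh1 * gh1 = gh1 * gh1), tri3_fix R h1h1h1]
  rw [ee_apply', this, ← ee_apply']

theorem ee_h2 (v : V) : ee R (R gh2 v) = ee R v := by
  have : tri3 R gh2 (R gh2 v) = tri3 R gh2 v := by
    rw [← tri3_comm R (rfl : gh2 * gh2 = gh2 * gh2), tri3_fix R h2h2h2]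
  rw [ee_apply, this, ← ee_apply]

/-- expansion -/
theorem ee_expand (v : V) : ee R v = ∑ i : Fin 9, R (wd (Ei.getD i [])) v := by
  rw [Fin.sum_univ_castSucc, Fin.sum_univ_eight]
  show _ = R (wd (Ei.getD 0 [])) v + R (wd (Ei.getD 1 [])) v + R (wd (Ei.getD 2 [])) v + R (wd (Ei.getD 3 [])) v +
    R (wd (Ei.getD 4 [])) v + R (wd (Ei.getD 5 [])) v + R (wd (Ei.getD 6 [])) v + R (wd (Ei.getD 7 [])) v +
    R (wd (Ei.getD 8 [])) v
  rw [E00, E01, E02, E10, E11, E12, E20, E21, E22, ee_apply, tri3_apply R gh2, tri3_apply]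
  simp only [rmul, rone, map_add]
  abel

theorem cube12 : gh1 * gh2 * (gh1 * gh2) * (gh1 * gh2) = 1 := by
  have h1 := h1h1h1
  have h2 := h2h2h2
  have h3 : gh1 * gh2 * (gh1 * gh2) * (gh1 * gh2) = (gh1 * gh1 * gh1) * (gh2 * gh2 * gh2) := by
    have c := h1h2
    have c' : Commute gh1 gh2 := c
    rw [← pow_three', ← pow_three', ← pow_three', c'.mul_pow]
  rw [h3, h1, h2, one_mul]

theorem cube112 : gh1 * gh1 * gh2 * (gh1 * gh1 * gh2) * (gh1 * gh1 * gh2) = 1 := by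
  have c' : Commute gh1 gh2 := h1h2
  have h3 : (gh1 * gh1 * gh2) ^ 3 = (gh1 ^ 3) ^ 2 * gh2 ^ 3 := by
    rw [(c'.mul_left c').mul_pow, ← pow_two, ← pow_mul, ← pow_mul]
  rw [← pow_three', h3, pow_three', pow_three', h1h1h1, h2h2h2, one_pow, one_mul]

theorem cc : Commute gh1 gh2 := h1h2
theorem comm12_1 : gh1 * gh2 * gh1 = gh1 * (gh1 * gh2) := ((Commute.refl gh1).mul_left cc.symm)
theorem comm12_2 : gh1 * gh2 * gh2 = gh2 * (gh1 * gh2) := (cc.mul_left (Commute.refl gh2))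
theorem comm112_1 : gh1 * gh1 * gh2 * gh1 = gh1 * (gh1 * gh1 * gh2) :=
  (((Commute.refl gh1).mul_left (Commute.refl gh1)).mul_left cc.symm)
theorem comm112_2 : gh1 * gh1 * gh2 * gh2 = gh2 * (gh1 * gh1 * gh2) := ((cc.mul_left cc).mul_left (Commute.refl gh2))
theorem comm_12_112 : gh1 * gh2 * (gh1 * gh1 * gh2) = gh1 * gh1 * gh2 * (gh1 * gh2) :=
  Commute.mul_right (Commute.mul_right comm12_1 comm12_1) comm12_2

/-- the identity is the sum of the five projections -/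
theorem one_eq (c2 : (2 : F) = 0) (v : V) :
    v = ee R v + (tri3 R gh1 v + tri3 R gh2 v + tri3 R (gh1 * gh2) v + tri3 R (gh1 * gh1 * gh2) v) := by
  have c : ∀ x, R gh1 (R gh2 x) = R gh2 (R gh1 x) := rel R h1h2
  rw [ee_apply, tri3_apply R gh2, tri3_apply, tri3_apply, tri3_apply, tri3_apply]
  simp only [rmul, map_add]
  have e1 : R gh1 (R gh2 (R gh1 (R gh2 v))) = R gh1 (R gh1 (R gh2 (R gh2 v))) := by rw [← c (R gh2 v)]
  have e2 : R gh1 (R gh1 (R gh2 (R gh1 (R gh1 (R gh2 v))))) = R gh1 (R gh2 (R gh2 v)) := by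
    rw [← c, ← c, cube R h1h1h1]
  rw [e1, e2]
  set a := R gh1 v
  set b := R gh2 v
  have hd : ∀ x : V, x + x = 0 := dbl c2
  have : v + R gh2 v + R gh2 (R gh2 v) + (R gh1 v + R gh1 (R gh2 v) + R gh1 (R gh2 (R gh2 v))) +
      (R gh1 (R gh1 v) + R gh1 (R gh1 (R gh2 v)) + R gh1 (R gh1 (R gh2 (R gh2 v)))) +
      (v + R gh1 v + R gh1 (R gh1 v) + (v + R gh2 v + R gh2 (R gh2 v)) +
        (v + R gh1 (R gh2 v) + R gh1 (R gh1 (R gh2 (R gh2 v)))) +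
        (v + R gh1 (R gh1 (R gh2 v)) + R gh1 (R gh2 (R gh2 v)))) =
      v + (v + v) + (v + v) + (R gh1 v + R gh1 v) + (R gh2 v + R gh2 v) + (R gh1 (R gh1 v) + R gh1 (R gh1 v)) +
      (R gh2 (R gh2 v) + R gh2 (R gh2 v)) + (R gh1 (R gh2 v) + R gh1 (R gh2 v)) +
      (R gh1 (R gh2 (R gh2 v)) + R gh1 (R gh2 (R gh2 v))) + (R gh1 (R gh1 (R gh2 v)) + R gh1 (R gh1 (R gh2 v))) +
      (R gh1 (R gh1 (R gh2 (R gh2 v))) + R gh1 (R gh1 (R gh2 (R gh2 v)))) := by abel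
  rw [this]
  simp only [hd, add_zero]

end

section fin

variable (R : Spor.M12 →* Module.End F V)

/-- **The dimension of a submodule without `E`-fixed vectors.** -/
theorem lemQ (c2 : (2 : F) = 0) (D : Submodule F V) (he : ∀ x ∈ D, ee R x = 0) (s1 : ∀ x ∈ D, R gh1 x ∈ D)
    (s2 : ∀ x ∈ D, R gh2 x ∈ D) (q2 : ∀ x ∈ D, R gi2 x ∈ D) (q3 : ∀ x ∈ D, R gi3 x ∈ D) :
    finrank F D = 4 * finrank F (D ⊓ es (R gh1) 1 : Submodule F V) ∧ (D ≠ ⊥ → 8 ≤ finrank F D) := by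
  have c : ∀ x, R gh1 (R gh2 x) = R gh2 (R gh1 x) := rel R h1h2
  have s12 : ∀ x ∈ D, R (gh1 * gh2) x ∈ D := fun x hx => by rw [rmul]; exact s1 _ (s2 _ hx)
  have s112 : ∀ x ∈ D, R (gh1 * gh1 * gh2) x ∈ D := fun x hx => by rw [rmul, rmul]; exact s1 _ (s1 _ (s2 _ hx))
  have tst : ∀ g, (∀ x ∈ D, R g x ∈ D) → ∀ x ∈ D, tri3 R g x ∈ D := by
    intro g hg x hx
    rw [tri3_apply]
    exact D.add_mem (D.add_mem hx (hg _ hx)) (hg _ (hg _ hx))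
  -- `tri3 g2` on the fixed space of `g1`
  have k12 : ∀ x, R (gh1 * gh2) x = x → tri3 R gh2 x = tri3 R gh1 x := by
    intro x hx
    rw [rmul] at hx
    have h3 : R gh2 x = R gh1 (R gh1 x) := by
      have := congrArg (fun y => R gh1 (R gh1 y)) hx
      rw [cube R h1h1h1] at this
      exact this
    have h4 : R gh2 (R gh2 x) = R gh1 x := by
      rw [h3, ← c, ← c, h3, cube R h1h1h1]
    rw [tri3_apply, tri3_apply, h4, h3]; abel
  have k112 : ∀ x, R (gh1 * gh1 * gh2) x = x → tri3 R gh2 x = tri3 R gh1 x ∧ tri3 R (gh1 * gh2) x = tri3 R gh1 x := by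
    intro x hx
    rw [rmul, rmul] at hx
    have h3 : R gh2 x = R gh1 x := by
      have := congrArg (fun y => R gh1 y) hx
      rw [cube R h1h1h1] at this
      exact this
    have h4 : R gh2 (R gh2 x) = R gh1 (R gh1 x) := by
      rw [h3, ← c, h3]
    refine ⟨by rw [tri3_apply, tri3_apply, h4, h3], ?_⟩
    rw [tri3_apply, tri3_apply, rmul, rmul, h3, ← c, ← c, h3, cube R h1h1h1]
    abel
  -- the vanishing on fixed spaces
  have z1 : ∀ x ∈ D, R gh2 x = x → tri3 R gh1 x = 0 := by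
    intro x hx h3
    have := he x hx
    rwa [ee_apply, tri3_of_fix R c2 h3] at this
  have z1' : ∀ x ∈ D, R gh1 x = x → tri3 R gh2 x = 0 := by
    intro x hx h3
    have := he x hx
    rwa [ee_apply', tri3_of_fix R c2 h3] at this
  have z2 : ∀ x ∈ D, tri3 R gh2 x = tri3 R gh1 x → tri3 R gh1 x = 0 := by
    intro x hx h3
    have := he x hx
    rwa [ee_apply, h3, tri3_idem R c2 h1h1h1] at this
  -- splitting
  have a1 := split_idem D (tri3 R gh1) (tri3_idem R c2 h1h1h1) (tst _ s1)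
  have a2 := split_idem (D ⊓ LinearMap.ker (tri3 R gh1)) (tri3 R gh2) (tri3_idem R c2 h2h2h2) (by
    rintro x ⟨hx, hx'⟩
    refine ⟨tst _ s2 x hx, ?_⟩
    rw [SetLike.mem_coe, LinearMap.mem_ker] at hx' ⊢
    rw [tri3_comm' R h1h2, hx', map_zero])
  have a3 := split_idem (D ⊓ LinearMap.ker (tri3 R gh1) ⊓ LinearMap.ker (tri3 R gh2)) (tri3 R (gh1 * gh2))
    (tri3_idem R c2 cube12) (by
    rintro x ⟨⟨hx, hx'⟩, hx''⟩
    rw [SetLike.mem_coe, LinearMap.mem_ker] at hx' hx''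
    refine ⟨⟨tst _ s12 x hx, ?_⟩, ?_⟩
    · rw [SetLike.mem_coe, LinearMap.mem_ker, tri3_comm' R (comm12_1.symm), hx', map_zero]
    · rw [SetLike.mem_coe, LinearMap.mem_ker, tri3_comm' R (comm12_2.symm), hx'', map_zero])
  have a4 := split_idem (D ⊓ LinearMap.ker (tri3 R gh1) ⊓ LinearMap.ker (tri3 R gh2) ⊓ LinearMap.ker (tri3 R (gh1 * gh2)))
    (tri3 R (gh1 * gh1 * gh2)) (tri3_idem R c2 cube112) (by
    rintro x ⟨⟨⟨hx, hx'⟩, hx''⟩, hx3⟩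
    rw [SetLike.mem_coe, LinearMap.mem_ker] at hx' hx'' hx3
    refine ⟨⟨⟨tst _ s112 x hx, ?_⟩, ?_⟩, ?_⟩
    · rw [SetLike.mem_coe, LinearMap.mem_ker, tri3_comm' R (comm112_1.symm), hx', map_zero]
    · rw [SetLike.mem_coe, LinearMap.mem_ker, tri3_comm' R (comm112_2.symm), hx'', map_zero]
    · rw [SetLike.mem_coe, LinearMap.mem_ker, tri3_comm' R comm_12_112, hx3, map_zero])
  rw [ker_sub_one R c2 h1h1h1] at a1
  rw [ker_sub_one R c2 h2h2h2] at a2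
  rw [ker_sub_one R c2 cube12] at a3
  rw [ker_sub_one R c2 cube112] at a4
  have b2 : D ⊓ LinearMap.ker (tri3 R gh1) ⊓ es (R gh2) 1 = D ⊓ es (R gh2) 1 := by
    apply le_antisymm
    · rintro x ⟨⟨hx, _⟩, h3⟩; exact ⟨hx, h3⟩
    · rintro x ⟨hx, h3⟩
      exact ⟨⟨hx, z1 x hx (mem_es_one.1 h3)⟩, h3⟩
  have b3 : D ⊓ LinearMap.ker (tri3 R gh1) ⊓ LinearMap.ker (tri3 R gh2) ⊓ es (R (gh1 * gh2)) 1 = D ⊓ es (R (gh1 * gh2)) 1 := by
    apply le_antisymm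
    · rintro x ⟨⟨⟨hx, _⟩, _⟩, h3⟩; exact ⟨hx, h3⟩
    · rintro x ⟨hx, h3⟩
      have h4 := k12 x (mem_es_one.1 h3)
      have h5 := z2 x hx h4
      exact ⟨⟨⟨hx, h5⟩, h4.trans h5⟩, h3⟩
  have b4 : D ⊓ LinearMap.ker (tri3 R gh1) ⊓ LinearMap.ker (tri3 R gh2) ⊓ LinearMap.ker (tri3 R (gh1 * gh2)) ⊓
      es (R (gh1 * gh1 * gh2)) 1 = D ⊓ es (R (gh1 * gh1 * gh2)) 1 := by
    apply le_antisymm
    · rintro x ⟨⟨⟨⟨hx, _⟩, _⟩, _⟩, h3⟩; exact ⟨hx, h3⟩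
    · rintro x ⟨hx, h3⟩
      have h4 := k112 x (mem_es_one.1 h3)
      have h5 := z2 x hx h4.1
      exact ⟨⟨⟨⟨hx, h5⟩, h4.1.trans h5⟩, h4.2.trans h5⟩, h3⟩
  have b5 : D ⊓ LinearMap.ker (tri3 R gh1) ⊓ LinearMap.ker (tri3 R gh2) ⊓ LinearMap.ker (tri3 R (gh1 * gh2)) ⊓
      LinearMap.ker (tri3 R (gh1 * gh1 * gh2)) = ⊥ := by
    rw [eq_bot_iff]
    rintro x ⟨⟨⟨⟨hx, h3⟩, h4⟩, h5⟩, h6⟩
    rw [SetLike.mem_coe, LinearMap.mem_ker] at h3 h4 h5 h6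
    rw [Submodule.mem_bot, one_eq R c2 x, he x hx, h3, h4, h5, h6]
    simp
  rw [b2] at a2
  rw [b3] at a3
  rw [b4, b5, finrank_bot] at a4
  -- conjugation
  have cj : ∀ (q g g' : Spor.M12), (∀ x ∈ D, R q x ∈ D) → q * g = g' * q →
      finrank F (D ⊓ es (R g) 1 : Submodule F V) ≤ finrank F (D ⊓ es (R g') 1 : Submodule F V) := by
    intro q g g' hq e
    refine le_of_inj (R q) ?_ (fun v _ hv => rzero R q hv)
    rintro x ⟨hx, hx'⟩
    refine ⟨hq x hx, ?_⟩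
    rw [SetLike.mem_coe, mem_es_one] at hx' ⊢
    rw [← rel R e, hx']
  have d1 := cj gi2 gh1 gh2 q2 i2h1
  have d2 := cj gi3 gh2 (gh1 * gh2) q3 i3h2
  have d3 := cj gi3 gh1 (gh1 * gh1 * gh2) q3 i3h1
  have q33 : ∀ x ∈ D, R (gi3 * gi3 * gi3) x ∈ D := fun x hx => by rw [rmul, rmul]; exact q3 _ (q3 _ (q3 _ hx))
  have q22 : ∀ x ∈ D, R (gi2 * gi2 * gi2) x ∈ D := fun x hx => by rw [rmul, rmul]; exact q2 _ (q2 _ (q2 _ hx))
  have j3 : gi3 * gi3 * gi3 * gi3 = 1 := by rw [mul_assoc, i3i3, tt]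
  have j2 : gi2 * gi2 * gi2 * gi2 = 1 := by rw [mul_assoc, i2i2, tt]
  have inv_rel : ∀ {q q' g g' : Spor.M12}, q' * q = 1 → q * q' = 1 → q * g = g' * q → q' * g' = g * q' := by
    intro q q' g g' e1 e2 e3
    calc q' * g' = q' * g' * (q * q') := by rw [e2, mul_one]
      _ = q' * (g' * q) * q' := by simp only [mul_assoc]
      _ = q' * (q * g) * q' := by rw [e3]
      _ = (q' * q) * g * q' := by simp only [mul_assoc]
      _ = g * q' := by rw [e1, one_mul]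
  have j3' : gi3 * (gi3 * gi3 * gi3) = 1 := by simp only [← mul_assoc]; exact j3
  have j2' : gi2 * (gi2 * gi2 * gi2) = 1 := by simp only [← mul_assoc]; exact j2
  have d1' := cj (gi2 * gi2 * gi2) gh2 gh1 q22 (inv_rel j2 j2' i2h1)
  have d2' := cj (gi3 * gi3 * gi3) (gh1 * gh2) gh2 q33 (inv_rel j3 j3' i3h2)
  have d3' := cj (gi3 * gi3 * gi3) (gh1 * gh1 * gh2) gh1 q33 (inv_rel j3 j3' i3h1)
  have tot : finrank F D = 4 * finrank F (D ⊓ es (R gh1) 1 : Submodule F V) := by omega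
  refine ⟨tot, fun hD => ?_⟩
  have hpos : finrank F D ≠ 0 := fun h0 => hD (Submodule.finrank_eq_zero.1 h0)
  by_contra hlt
  have h1 : finrank F (D ⊓ es (R gh1) 1 : Submodule F V) = 1 := by omega
  obtain ⟨⟨w, hw⟩, hw0⟩ := (finrank_pos_iff_exists_ne_zero (R := F) (M := (D ⊓ es (R gh1) 1 : Submodule F V))).1
    (by rw [h1]; norm_num)
  have hw0' : w ≠ 0 := fun h => hw0 (Subtype.ext h)
  obtain ⟨hwD, hw1⟩ := hw
  rw [SetLike.mem_coe, mem_es_one] at hw1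
  obtain ⟨a, ha⟩ := exists_scalar h1 (w := w) ⟨hwD, mem_es_one.2 hw1⟩ hw0' (x := R gh2 w)
    ⟨s2 _ hwD, mem_es_one.2 (by rw [c, hw1])⟩
  obtain ⟨b, hb⟩ := exists_scalar h1 (w := w) ⟨hwD, mem_es_one.2 hw1⟩ hw0' (x := R gt w)
    ⟨by rw [← i2i2, rmul]; exact q2 _ (q2 _ hwD), mem_es_one.2 (by
      -- `h1 t = t h1 h1`
      have h5 : gh1 * gt = gt * gh1 * gh1 := by
        rw [th1, mul_assoc (gh1 * gh1) gt gh1, th1, ← mul_assoc, ← mul_assoc, h1h1h1, one_mul]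
      rw [rel3 R h5, hw1, hw1])⟩
  have hb0 : b ≠ 0 := by
    rintro rfl
    rw [zero_smul] at hb
    exact hw0' (rzero R _ hb)
  have e1 : 1 + a + a * a = 0 := by
    have h5 := z1' w hwD hw1
    rw [tri3_apply, ha, map_smul, ha, smul_smul] at h5
    have h6 : (1 + a + a * a) • w = 0 := by rw [add_smul, add_smul, one_smul, h5]
    exact (smul_eq_zero.1 h6).resolve_right hw0'
  have e2 : b * a = b * (a * a) := by
    have h5 := rel3 R th2 w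
    rw [ha, map_smul, hb, map_smul, map_smul, ha, map_smul, ha, smul_smul, smul_smul, smul_smul] at h5
    have h6 : (a * b - b * (a * a)) • w = 0 := by rw [sub_smul, h5, mul_assoc, sub_self]
    have h7 := (smul_eq_zero.1 h6).resolve_right hw0'
    rw [mul_comm b a]
    exact sub_eq_zero.1 h7
  have e3 : a = a * a := mul_left_cancel₀ hb0 e2
  have e4 : (1 : F) = 0 := by linear_combination e1 + e3 - a * c2
  exact one_ne_zero e4

theorem not_one (hirr : Irr R) (hd : finrank F V = 10) {g : Spor.M12} (hg : g ≠ 1) : R g ≠ 1 := by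
  intro h0
  have hs := Cfsg.Agent.Schreier.MTwelve.isSimpleGroup
  apply not_triv R hirr hd
  let N : Subgroup Spor.M12 :=
    { carrier := {g | R g = 1}
      one_mem' := map_one R
      mul_mem' := fun {a b} ha hb => by
        change R (a * b) = 1
        rw [map_mul, show R a = 1 from ha, show R b = 1 from hb, one_mul]
      inv_mem' := fun {a} ha => by
        change R a⁻¹ = 1
        have h1 : R a⁻¹ * R a = 1 := by rw [← map_mul, inv_mul_cancel, map_one]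
        rwa [show R a = 1 from ha, mul_one] at h1 }
  have hN : N.Normal := ⟨fun a ha g => by
    change R (g * a * g⁻¹) = 1
    rw [map_mul, map_mul, show R a = 1 from ha, mul_one, ← map_mul, mul_inv_cancel, map_one]⟩
  rcases hs.eq_bot_or_eq_top_of_normal N hN with h1 | h1
  · exfalso
    have h2 : g ∈ N := h0
    rw [h1, Subgroup.mem_bot] at h2
    exact hg h2
  · have : gt ∈ N := by rw [h1]; trivial
    exact this

end fin

end Cfsg.Agent.H36.M12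

private theorem dce_878fff7b0f9b : _root_.True := by
  try have : _root_.True := by simp only [_root_.Cfsg.Agent.H36.M12.TT.eq_1]
  exact _root_.True.intro
end

-- part: H36/M12/TwoFix
section
prune_inst 0x1400440202200000000000402000000000001000040000020400200020140008000000002800000000080000000002000000000424000000e00000000000000000102021000a000000000000000000000000000000000000000000000000000000000000
set_option linter.all false
open scoped Cfsg.Agent.FastGrp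

/-!
# Ten-dimensional modules of `M₁₂` in characteristic two: the family (helper36)
-/

set_option autoImplicit false
set_option maxRecDepth 100000
set_option linter.unusedSectionVars false

namespace Cfsg.Agent.H36.M12

open Module Cfsg Cfsg.Agent.H932.Mt Cfsg.Agent.CoThreeStd.MTwelve Cfsg.Agent.SporadicStructure.M11InvPerms

variable {F V : Type*} [Field F] [AddCommGroup V] [Module F V] [FiniteDimensional F V]
variable (R : Spor.M12 →* Module.End F V)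

theorem rel4 {g h a b c d : Spor.M12} (e : g * h = a * b * c * d) (v : V) : R g (R h v) = R a (R b (R c (R d v))) := by
  rw [← rmul, e, rmul, rmul, rmul]

theorem rel5 {g h a b c d k : Spor.M12} (e : g * h = a * b * c * d * k) (v : V) :
    R g (R h v) = R a (R b (R c (R d (R k v)))) := by
  rw [← rmul, e, rmul, rmul, rmul, rmul]

theorem ee_i2 (v : V) : R gi2 (ee R v) = ee R (R gi2 v) := by
  have k1 : ∀ x, R gi2 (R gh1 x) = R gh2 (R gi2 x) := rel R i2h1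
  have k2 : ∀ x, R gi2 (R gh2 x) = R gh1 (R gh1 (R gi2 x)) := rel3 R i2h2
  have c : ∀ x, R gh2 (R gh1 x) = R gh1 (R gh2 x) := rel R h1h2.symm
  simp only [ee_apply, tri3_apply, map_add, k1, k2, c, cube R h1h1h1, cube R h2h2h2]
  abel

theorem ee_i3 (v : V) : R gi3 (ee R v) = ee R (R gi3 v) := by
  have k1 : ∀ x, R gi3 (R gh1 x) = R gh1 (R gh1 (R gh2 (R gi3 x))) := rel4 R i3h1
  have k2 : ∀ x, R gi3 (R gh2 x) = R gh1 (R gh2 (R gi3 x)) := rel3 R i3h2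
  have c : ∀ x, R gh2 (R gh1 x) = R gh1 (R gh2 x) := rel R h1h2.symm
  simp only [ee_apply, tri3_apply, map_add, k1, k2, c, cube R h1h1h1, cube R h2h2h2]
  abel

theorem ee_rho (v : V) : R grho (ee R v) = ee R (R grho v) := by
  have k1 : ∀ x, R grho (R gh1 x) = R gh1 (R grho x) := rel R rhoh1
  have k2 : ∀ x, R grho (R gh2 x) = R gh1 (R gh2 (R grho x)) := rel3 R rhoh2
  have c : ∀ x, R gh2 (R gh1 x) = R gh1 (R gh2 x) := rel R h1h2.symm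
  simp only [ee_apply, tri3_apply, map_add, k1, k2, c, cube R h1h1h1, cube R h2h2h2]
  abel

theorem ee_s1 (v : V) : R gs1 (ee R v) = ee R (R gs1 v) := by
  have k1 : ∀ x, R gs1 (R gh1 x) = R gh1 (R gs1 x) := rel R s1h1
  have k2 : ∀ x, R gs1 (R gh2 x) = R gh2 (R gh2 (R gh1 (R gh1 (R gs1 x)))) := rel5 R s1h2
  have c : ∀ x, R gh2 (R gh1 x) = R gh1 (R gh2 x) := rel R h1h2.symm
  simp only [ee_apply, tri3_apply, map_add, k1, k2, c, cube R h1h1h1, cube R h2h2h2]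
  abel

theorem TT_of (c2 : (2 : F) = 0) {q : Spor.M12} (hq : ∀ v, R q (ee R v) = ee R (R q v)) {t : V} (ht : t ∈ TT R) :
    R q t ∈ TT R := by
  rw [← ee_of_mem R c2 ht, hq]
  exact ee_mem R _

/-- dimensions -/
theorem dims (c2 : (2 : F) = 0) (hirr : Irr R) (hd : finrank F V = 10) :
    finrank F (LinearMap.ker (ee R)) = 8 ∧ finrank F (TT R) = 2 := by
  have hne : LinearMap.ker (ee R) ≠ ⊥ := by
    intro h0
    apply not_one R hirr hd h1_ne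
    apply LinearMap.ext
    intro v
    have h1 : R gh1 v - v ∈ LinearMap.ker (ee R) := by
      rw [LinearMap.mem_ker, map_sub, ee_h1, sub_self]
    rw [h0, Submodule.mem_bot, sub_eq_zero] at h1
    exact h1
  obtain ⟨e1, e2⟩ := lemQ R c2 (LinearMap.ker (ee R)) (fun x hx => hx)
    (fun x hx => by rw [LinearMap.mem_ker] at hx ⊢; rw [ee_h1, hx])
    (fun x hx => by rw [LinearMap.mem_ker] at hx ⊢; rw [ee_h2, hx])
    (fun x hx => by rw [LinearMap.mem_ker] at hx ⊢; rw [← ee_i2, hx, map_zero])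
    (fun x hx => by rw [LinearMap.mem_ker] at hx ⊢; rw [← ee_i3, hx, map_zero])
  have e3 := e2 hne
  have h1 := LinearMap.finrank_range_add_finrank_ker (ee R)
  have h2 : LinearMap.range (ee R) = TT R := by
    apply le_antisymm
    · rintro _ ⟨v, rfl⟩; exact ee_mem R v
    · intro t ht
      exact ⟨t, ee_of_mem R c2 ht⟩
  rw [h2, hd] at h1
  omega

/-- restriction to `TT` -/
def rs (q : Spor.M12) (hq : ∀ t ∈ TT R, R q t ∈ TT R) : Module.End F (TT R) := (R q).restrict hq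

theorem rs_coe (q : Spor.M12) (hq : ∀ t ∈ TT R, R q t ∈ TT R) (t : TT R) : ((rs R q hq t : TT R) : V) = R q t := rfl

theorem i2_fix (c2 : (2 : F) = 0) (hirr : Irr R) (hd : finrank F V = 10) {t : V} (ht : t ∈ TT R) :
    R gi2 t = t ∧ R gi3 t = t := by
  have s2 : ∀ t ∈ TT R, R gi2 t ∈ TT R := fun t ht => TT_of R c2 (ee_i2 R) ht
  have s3 : ∀ t ∈ TT R, R gi3 t ∈ TT R := fun t ht => TT_of R c2 (ee_i3 R) ht
  have sr : ∀ t ∈ TT R, R grho t ∈ TT R := fun t ht => TT_of R c2 (ee_rho R) ht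
  have ss : ∀ t ∈ TT R, R gs1 t ∈ TT R := fun t ht => TT_of R c2 (ee_s1 R) ht
  have s32 : ∀ t ∈ TT R, R (gi3 * gi2) t ∈ TT R := fun t ht => by rw [rmul]; exact s3 _ (s2 _ ht)
  have key := two_dim (dims R c2 hirr hd).2 c2 (rs R gi2 s2) (rs R (gi3 * gi2) s32) (rs R grho sr) (rs R gs1 ss)
    (fun v hv => Subtype.ext (rzero R grho (congrArg Subtype.val hv)))
    (fun v hv => Subtype.ext (rzero R gs1 (congrArg Subtype.val hv)))
    (by
      apply LinearMap.ext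
      intro v
      apply Subtype.ext
      simp only [Module.End.mul_apply, rs_coe, Module.End.one_apply]
      rw [← rmul, i2i2, ← rmul R gi2 gi2, i2i2, tt_v])
    (by
      apply LinearMap.ext
      intro v
      apply Subtype.ext
      simp only [Module.End.mul_apply, rs_coe]
      rw [rmul R gi3, ← rmul R gi2, i2i3i2, ← rmul, ← rmul, i3i3, i2i2])
    (by
      apply LinearMap.ext
      intro v
      apply Subtype.ext
      simp only [Module.End.mul_apply, rs_coe]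
      rw [rmul R gi3, ← rmul R gi2 (gi3 * gi2), i2i3i2, ← rmul R gi2 gi2, ← rmul R gi2 gi2, i2i2, rel R ti3])
    (by
      apply LinearMap.ext
      intro v
      apply Subtype.ext
      simp only [Module.End.mul_apply, rs_coe]
      rw [← rmul, ← rmul, rhoi2])
    (by
      apply LinearMap.ext
      intro v
      apply Subtype.ext
      simp only [Module.End.mul_apply, rs_coe]
      rw [← rmul, ← rmul R gi2, i2i3i2, rhoi3i2, rmul])
    (by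
      apply LinearMap.ext
      intro v
      apply Subtype.ext
      simp only [Module.End.mul_apply, rs_coe]
      rw [← rmul, ← rmul R gi2 gi2, i2i2, ← rmul R gt, ← rmul, s1i2])
    (by
      apply LinearMap.ext
      intro v
      apply Subtype.ext
      simp only [Module.End.mul_apply, rs_coe]
      rw [← rmul, ← rmul R gi2 gi2, i2i2, ← rmul R gt, ← rmul, s1i3i2])
  have k1 : R gi2 t = t := congrArg Subtype.val (LinearMap.congr_fun key.1 ⟨t, ht⟩)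
  have k2 : R (gi3 * gi2) t = t := congrArg Subtype.val (LinearMap.congr_fun key.2 ⟨t, ht⟩)
  rw [rmul, k1] at k2
  exact ⟨k1, k2⟩

/-- images of `t` -/
def yy (t : V) (i : ℕ) : V := R (wd (Rp.getD i [])) t

theorem yy_zero (t : V) : yy R t 0 = t := rone R t

theorem Rp_succ : ∀ i : Fin 9, Rp.getD (i + 1) [] = Ei.getD i [] ++ ws := by decide

theorem yy_succ (t : V) (i : Fin 9) : yy R t (i + 1) = R (wd (Ei.getD i [])) (R gs t) := by
  rw [yy, Rp_succ, wd_append, rmul]; rfl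

theorem yy_one (t : V) : yy R t 1 = R gs t := by
  have := yy_succ R t 0
  rw [show Ei.getD ((0 : Fin 9) : ℕ) [] = [] from rfl, show wd [] = 1 from rfl, rone] at this
  exact this

theorem fix_kw {t : V} (h1 : R gh1 t = t) (h2 : R gh2 t = t) (h3 : R gi2 t = t) (h4 : R gi3 t = t) (w : List ℕ)
    (hw : (w.all fun m => decide (m < 4)) = true) : R (wd (w.flatMap kw)) t = t := by
  induction w with
  | nil => exact rone R t
  | cons a w ih =>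
    rw [List.all_cons, Bool.and_eq_true, decide_eq_true_eq] at hw
    rw [List.flatMap_cons, wd_append, rmul, ih hw.2]
    obtain ⟨ha, -⟩ := hw
    interval_cases a
    · exact h1
    · exact h2
    · exact h3
    · exact h4

theorem fix_kw5 {t : V} (h1 : R gh1 t = t) (h2 : R gh2 t = t) (h3 : R gi2 t = t) (h4 : R gi3 t = t) (h5 : R gs t = t)
    (w : List ℕ) : R (wd (w.flatMap kw)) t = t := by
  induction w with
  | nil => exact rone R t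
  | cons a w ih =>
    rw [List.flatMap_cons, wd_append, rmul, ih]
    match a with
    | 0 => exact h1
    | 1 => exact h2
    | 2 => exact h3
    | 3 => exact h4
    | n + 4 => exact h5

theorem yy_act (c2 : (2 : F) = 0) (hirr : Irr R) (hd : finrank F V = 10) {t : V} (ht : t ∈ TT R) (k : Fin 5) (i : Fin 10) :
    R (wd (kw k)) (yy R t i) = yy R t (tKe k i).1 := by
  obtain ⟨h1, h2⟩ := (mem_TT R).1 ht
  obtain ⟨h3, h4⟩ := i2_fix R c2 hirr hd ht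
  obtain ⟨-, e1, e2⟩ := chk_K k i
  rw [yy, ← rmul, ← wd_append, wd_eq e2, wd_append, rmul, fix_kw R h1 h2 h3 h4 _ e1]
  rfl

theorem ee_E (x : V) (i : Fin 9) : ee R (R (wd (Ei.getD i [])) x) = ee R x := by
  match i with
  | 0 => show ee R (R (wd (Ei.getD 0 [])) x) = _; rw [E00, rone]
  | 1 => show ee R (R (wd (Ei.getD 1 [])) x) = _; rw [E01, ee_h2]
  | 2 => show ee R (R (wd (Ei.getD 2 [])) x) = _; rw [E02, rmul, ee_h2, ee_h2]
  | 3 => show ee R (R (wd (Ei.getD 3 [])) x) = _; rw [E10, ee_h1]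
  | 4 => show ee R (R (wd (Ei.getD 4 [])) x) = _; rw [E11, rmul, ee_h1, ee_h2]
  | 5 => show ee R (R (wd (Ei.getD 5 [])) x) = _; rw [E12, rmul, rmul, ee_h1, ee_h2, ee_h2]
  | 6 => show ee R (R (wd (Ei.getD 6 [])) x) = _; rw [E20, rmul, ee_h1, ee_h1]
  | 7 => show ee R (R (wd (Ei.getD 7 [])) x) = _; rw [E21, rmul, rmul, ee_h1, ee_h1, ee_h2]
  | 8 => show ee R (R (wd (Ei.getD 8 [])) x) = _; rw [E22, rmul, rmul, rmul, ee_h1, ee_h1, ee_h2, ee_h2]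

theorem ee_yy_succ (t : V) (i : Fin 9) : ee R (yy R t (i + 1)) = ee R (R gs t) := by rw [yy_succ, ee_E]

theorem sum_yy (t : V) : ∑ i : Fin 9, yy R t (i + 1) = ee R (R gs t) := by
  rw [ee_expand]
  exact Finset.sum_congr rfl fun i _ => yy_succ R t i

theorem ee_yy_ne (t : V) {i : ℕ} (hi : i < 10) (h0 : i ≠ 0) : ee R (yy R t i) = ee R (R gs t) := by
  obtain ⟨j, rfl⟩ := Nat.exists_eq_succ_of_ne_zero h0
  exact ee_yy_succ R t ⟨j, by omega⟩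

/-- the operator `t ↦ ee (s t)` is an involution on `TT` -/
theorem As_invol (c2 : (2 : F) = 0) (hirr : Irr R) (hd : finrank F V = 10) {t : V} (ht : t ∈ TT R) :
    ee R (R gs (ee R (R gs t))) = t := by
  have h1 : ∀ i : Fin 9, ee R (R gs (yy R t (i + 1))) = if i = 0 then t else ee R (R gs t) := by
    intro i
    have h2 := yy_act R c2 hirr hd ht 4 ⟨i + 1, by omega⟩
    have h3 : R gs (yy R t (i + 1)) = yy R t (tKe 4 (i + 1)).1 := h2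
    rw [h3]
    by_cases hi : i = 0
    · subst hi
      rw [if_pos rfl, show (tKe 4 (((0 : Fin 9) : ℕ) + 1)).1 = 0 by decide +kernel, yy_zero, ee_of_mem R c2 ht]
    · rw [if_neg hi]
      apply ee_yy_ne R t (chk_K 4 ⟨i + 1, by omega⟩).1
      apply chk_s ⟨i + 1, by omega⟩
      intro h4
      apply hi
      have h5 := congrArg Fin.val h4
      apply Fin.ext
      have h6 : ((1 : Fin 10) : ℕ) = 1 := rfl
      have h7 : ((0 : Fin 9) : ℕ) = 0 := rfl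
      simp only [h6] at h5
      omega
  have h2 : ee R (R gs (ee R (R gs t))) = ∑ i : Fin 9, (if i = 0 then t else ee R (R gs t)) := by
    calc ee R (R gs (ee R (R gs t))) = ee R (R gs (∑ i : Fin 9, yy R t (i + 1))) := by rw [sum_yy]
      _ = ∑ i : Fin 9, ee R (R gs (yy R t (i + 1))) := by rw [map_sum, map_sum]
      _ = _ := Finset.sum_congr rfl fun i _ => h1 i
  rw [h2, Fin.sum_univ_succ, if_pos rfl]
  have h3 : ∀ i : Fin 8, (if i.succ = 0 then t else ee R (R gs t)) = ee R (R gs t) := fun i =>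
    if_neg (Fin.succ_ne_zero i)
  rw [Finset.sum_congr rfl fun i _ => h3 i, Finset.sum_const, Finset.card_univ, Fintype.card_fin]
  have h4 : (8 : ℕ) • ee R (R gs t) = 0 := by
    rw [← Nat.cast_smul_eq_nsmul F, show ((8 : ℕ) : F) = 2 * 4 by norm_num, c2, zero_mul, zero_smul]
  rw [h4, add_zero]

theorem pre {D : Submodule F V} {g : Spor.M12} (h : ∀ x ∈ D, R g x ∈ D) {d : V} (hd : d ∈ D) : ∃ d' ∈ D, R g d' = d := by
  have hinj : Function.Injective ((R g).restrict h) := by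
    intro a b hab
    exact Subtype.ext (rinj R g (congrArg Subtype.val hab))
  obtain ⟨d', h1⟩ := (LinearMap.injective_iff_surjective.1 hinj) ⟨d, hd⟩
  exact ⟨d', d'.2, congrArg Subtype.val h1⟩

/-- **A vector fixed by the stabiliser of two points.** -/
theorem exists_fix (c2 : (2 : F) = 0) (hirr : Irr R) (hd : finrank F V = 10) (f : LinearMap.BilinForm F V)
    (hf : f.Nondegenerate) (hinv : ∀ g x y, f (R g x) (R g y) = f x y) :
    ∃ v, v ≠ 0 ∧ R gh1 v = v ∧ R gh2 v = v ∧ R gi2 v = v ∧ R gi3 v = v ∧ R gs v = v := by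
  obtain ⟨v, hv, hv0, hA⟩ : ∃ v ∈ TT R, v ≠ 0 ∧ ee R (R gs v) = v := by
    obtain ⟨⟨x, hx⟩, hx0⟩ := (finrank_pos_iff_exists_ne_zero (R := F) (M := TT R)).1
      (by rw [(dims R c2 hirr hd).2]; norm_num)
    have hx0' : x ≠ 0 := fun h => hx0 (Subtype.ext h)
    by_cases h1 : ee R (R gs x) = x
    · exact ⟨x, hx, hx0', h1⟩
    · refine ⟨ee R (R gs x) + x, (TT R).add_mem (ee_mem R _) hx, ?_, ?_⟩
      · intro h2
        apply h1
        rw [eq_neg_of_add_eq_zero_left h2]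
        exact neg_self c2 x
      · rw [map_add, map_add, As_invol R c2 hirr hd hx, add_comm]
  have act := fun (k : Fin 5) (i : Fin 10) => yy_act R c2 hirr hd hv k i
  obtain ⟨h1, h2⟩ := (mem_TT R).1 hv
  obtain ⟨h3, h4⟩ := i2_fix R c2 hirr hd hv
  set D : Submodule F V := Submodule.span F (Set.range fun i : Fin 10 => yy R v i - v) with hD
  have eey : ∀ i : Fin 10, ee R (yy R v i) = v := by
    intro i
    by_cases hi : (i : ℕ) = 0
    · rw [hi, yy_zero, ee_of_mem R c2 hv]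
    · rw [ee_yy_ne R v i.2 hi, hA]
  have he : ∀ x ∈ D, ee R x = 0 := by
    intro x hx
    induction hx using Submodule.span_induction with
    | mem x hx =>
      obtain ⟨i, rfl⟩ := hx
      simp only
      rw [map_sub, eey, ee_of_mem R c2 hv, sub_self]
    | zero => exact map_zero _
    | add x y _ _ hx hy => rw [map_add, hx, hy, add_zero]
    | smul a x _ hx => rw [map_smul, hx, smul_zero]
  have hmem : ∀ (k : Fin 5) (i : Fin 10), yy R v (tKe k i).1 - v ∈ D := by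
    intro k i
    have h5 := (chk_K k i).1
    exact Submodule.subset_span ⟨⟨_, h5⟩, rfl⟩
  have st : ∀ k : Fin 5, R (wd (kw k)) v - v ∈ D → ∀ x ∈ D, R (wd (kw k)) x ∈ D := by
    intro k hk x hx
    induction hx using Submodule.span_induction with
    | mem x hx =>
      obtain ⟨i, rfl⟩ := hx
      simp only
      rw [map_sub, act k i]
      have : yy R v (tKe k i).1 - R (wd (kw k)) v = (yy R v (tKe k i).1 - v) - (R (wd (kw k)) v - v) := by abel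
      rw [this]
      exact D.sub_mem (hmem k i) hk
    | zero => rw [map_zero]; exact D.zero_mem
    | add x y _ _ hx hy => rw [map_add]; exact D.add_mem hx hy
    | smul a x _ hx => rw [map_smul]; exact D.smul_mem _ hx
  have s1 : ∀ x ∈ D, R gh1 x ∈ D := st 0 (by show R gh1 v - v ∈ D; rw [h1, sub_self]; exact D.zero_mem)
  have s2 : ∀ x ∈ D, R gh2 x ∈ D := st 1 (by show R gh2 v - v ∈ D; rw [h2, sub_self]; exact D.zero_mem)
  have s3 : ∀ x ∈ D, R gi2 x ∈ D := st 2 (by show R gi2 v - v ∈ D; rw [h3, sub_self]; exact D.zero_mem)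
  have s4 : ∀ x ∈ D, R gi3 x ∈ D := st 3 (by show R gi3 v - v ∈ D; rw [h4, sub_self]; exact D.zero_mem)
  have s5 : ∀ x ∈ D, R gs x ∈ D := st 4 (by
    show R gs v - v ∈ D
    rw [← yy_one]
    exact Submodule.subset_span ⟨1, rfl⟩)
  have hlem := (lemQ R c2 D he s1 s2 s3 s4).2
  -- isotropic
  have fv : ∀ x ∈ D, f v x = 0 := by
    intro x hx
    have t3 : ∀ g, R g v = v → ∀ y, f v (tri3 R g y) = f v y := by
      intro g hg y
      have e1 : f v (R g y) = f v y := by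
        have := hinv g v y
        rwa [hg] at this
      have e2 : f v (R g (R g y)) = f v y := by
        have := hinv g v (R g y)
        rw [hg, e1] at this
        exact this
      rw [tri3_apply, map_add, map_add, e1, e2]
      linear_combination f v y * c2
    have e3 : f v (ee R x) = f v x := by rw [ee_apply, t3 _ h1, t3 _ h2]
    rw [← e3, he x hx, map_zero]
  have fst : ∀ (g : Spor.M12) (u : V), (∀ x ∈ D, R g x ∈ D) → (∀ x ∈ D, f u x = 0) → ∀ x ∈ D, f (R g u) x = 0 := by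
    intro g u hg hu x hx
    obtain ⟨x', hx', rfl⟩ := pre R hg hx
    rw [hinv]
    exact hu x' hx'
  have y0 : ∀ x ∈ D, f (yy R v 0) x = 0 := by rw [yy_zero]; exact fv
  have y1 : ∀ x ∈ D, f (yy R v 1) x = 0 := by
    have := act 4 0
    rw [show (tKe ((4 : Fin 5) : ℕ) ((0 : Fin 10) : ℕ)).1 = 1 by decide +kernel] at this
    rw [← this]; exact fst _ _ s5 y0
  have y2 : ∀ x ∈ D, f (yy R v 2) x = 0 := by
    have := act 1 1
    rw [show (tKe ((1 : Fin 5) : ℕ) ((1 : Fin 10) : ℕ)).1 = 2 by decide +kernel] at this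
    rw [← this]; exact fst _ _ s2 y1
  have y3 : ∀ x ∈ D, f (yy R v 3) x = 0 := by
    have := act 1 2
    rw [show (tKe ((1 : Fin 5) : ℕ) ((2 : Fin 10) : ℕ)).1 = 3 by decide +kernel] at this
    rw [← this]; exact fst _ _ s2 y2
  have y4 : ∀ x ∈ D, f (yy R v 4) x = 0 := by
    have := act 0 1
    rw [show (tKe ((0 : Fin 5) : ℕ) ((1 : Fin 10) : ℕ)).1 = 4 by decide +kernel] at this
    rw [← this]; exact fst _ _ s1 y1
  have y5 : ∀ x ∈ D, f (yy R v 5) x = 0 := by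
    have := act 1 4
    rw [show (tKe ((1 : Fin 5) : ℕ) ((4 : Fin 10) : ℕ)).1 = 5 by decide +kernel] at this
    rw [← this]; exact fst _ _ s2 y4
  have y6 : ∀ x ∈ D, f (yy R v 6) x = 0 := by
    have := act 1 5
    rw [show (tKe ((1 : Fin 5) : ℕ) ((5 : Fin 10) : ℕ)).1 = 6 by decide +kernel] at this
    rw [← this]; exact fst _ _ s2 y5
  have y7 : ∀ x ∈ D, f (yy R v 7) x = 0 := by
    have := act 0 4
    rw [show (tKe ((0 : Fin 5) : ℕ) ((4 : Fin 10) : ℕ)).1 = 7 by decide +kernel] at this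
    rw [← this]; exact fst _ _ s1 y4
  have y8 : ∀ x ∈ D, f (yy R v 8) x = 0 := by
    have := act 1 7
    rw [show (tKe ((1 : Fin 5) : ℕ) ((7 : Fin 10) : ℕ)).1 = 8 by decide +kernel] at this
    rw [← this]; exact fst _ _ s2 y7
  have y9 : ∀ x ∈ D, f (yy R v 9) x = 0 := by
    have := act 1 8
    rw [show (tKe ((1 : Fin 5) : ℕ) ((8 : Fin 10) : ℕ)).1 = 9 by decide +kernel] at this
    rw [← this]; exact fst _ _ s2 y8
  have yall : ∀ i : Fin 10, ∀ x ∈ D, f (yy R v i) x = 0 := by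
    intro i
    match i with
    | 0 => exact y0
    | 1 => exact y1
    | 2 => exact y2
    | 3 => exact y3
    | 4 => exact y4
    | 5 => exact y5
    | 6 => exact y6
    | 7 => exact y7
    | 8 => exact y8
    | 9 => exact y9
  have iso : ∀ a ∈ D, ∀ x ∈ D, f a x = 0 := by
    intro a ha x hx
    induction ha using Submodule.span_induction with
    | mem a ha =>
      obtain ⟨i, rfl⟩ := ha
      simp only
      rw [map_sub, LinearMap.sub_apply, yall i x hx, fv x hx, sub_self]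
    | zero => rw [map_zero, LinearMap.zero_apply]
    | add a b _ _ ha hb => rw [map_add, LinearMap.add_apply, ha, hb, add_zero]
    | smul c a _ ha => rw [map_smul, LinearMap.smul_apply, ha, smul_zero]
  have hle : finrank F D ≤ 5 := by
    have e1 : D ≤ f.orthogonal D := fun x hx => by
      rw [LinearMap.BilinForm.mem_orthogonal_iff]
      intro a ha
      exact iso a ha x hx
    have e2 := LinearMap.BilinForm.finrank_orthogonal hf D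
    have e3 := Submodule.finrank_mono e1
    have e4 := Submodule.finrank_le D
    omega
  have hbot : D = ⊥ := by
    by_contra hne
    have := hlem hne
    omega
  refine ⟨v, hv0, h1, h2, h3, h4, ?_⟩
  have h5 : yy R v 1 - v ∈ D := Submodule.subset_span ⟨1, rfl⟩
  rw [hbot, Submodule.mem_bot, sub_eq_zero, yy_one] at h5
  exact h5

theorem fix_mw {U : Submodule F V} (h1 : ∀ u ∈ U, R gi2 u ∈ U) (h2 : ∀ u ∈ U, R gi3 u ∈ U) (h3 : ∀ u ∈ U, R gs u ∈ U)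
    (h4 : ∀ u ∈ U, R gr u ∈ U) (h5 : ∀ u ∈ U, R grho u ∈ U) (w : List ℕ) : ∀ u ∈ U, R (wd (w.flatMap mw)) u ∈ U := by
  induction w with
  | nil => intro u hu; rw [show wd (([] : List ℕ).flatMap mw) = 1 from rfl, rone]; exact hu
  | cons a w ih =>
    intro u hu
    rw [List.flatMap_cons, wd_append, rmul]
    have h := ih u hu
    match a with
    | 0 => exact h1 _ h
    | 1 => exact h2 _ h
    | 2 => exact h3 _ h
    | 3 => exact h4 _ h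
    | n + 4 => exact h5 _ h

theorem top_of_mw (hirr : Irr R) {U : Submodule F V} (h1 : ∀ u ∈ U, R gi2 u ∈ U) (h2 : ∀ u ∈ U, R gi3 u ∈ U)
    (h3 : ∀ u ∈ U, R gs u ∈ U) (h4 : ∀ u ∈ U, R gr u ∈ U) (h5 : ∀ u ∈ U, R grho u ∈ U) : U = ⊥ ∨ U = ⊤ := by
  apply hirr
  intro g
  have hg : g ∈ Subgroup.closure ({wd wX, wd wY} : Set Spor.M12) := by rw [closure_XY]; trivial
  induction hg using Subgroup.closure_induction with
  | mem x hx =>
    rcases hx with rfl | hx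
    · rw [X_word]; exact fix_mw R h1 h2 h3 h4 h5 _
    · rw [Set.mem_singleton_iff.1 hx, Y_word]; exact fix_mw R h1 h2 h3 h4 h5 _
  | one => intro u hu; rwa [rone]
  | mul x y _ _ hx hy => intro u hu; rw [rmul]; exact hx _ (hy _ hu)
  | inv x _ hx =>
    intro u hu
    obtain ⟨u', hu', h6⟩ := pre R hx hu
    rw [← h6, rinv]
    exact hu'

theorem pm_rho : pm grho 7 = 10 ∧ pm grho 10 = 8 ∧ pm grho 8 = 7 :=
  ⟨pm_val (by decide +kernel), pm_val (by decide +kernel), pm_val (by decide +kernel)⟩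

/-- **The family in characteristic two.** -/
theorem exists_fam_two (c2 : (2 : F) = 0) (hirr : Irr R) (hd : finrank F V = 10) (f : LinearMap.BilinForm F V)
    (hf : f.Nondegenerate) (hinv : ∀ g x y, f (R g x) (R g y) = f x y) : ∃ W, Fam R W := by
  obtain ⟨v, hv0, h1, h2, h3, h4, h5⟩ := exists_fix R c2 hirr hd f hf hinv
  have hT2 := (dims R c2 hirr hd).2
  have hr : ∀ t, R gh1 t = t → R gh2 t = t → R gi2 t = t → R gi3 t = t → R gs t = t → R gr t = t := by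
    intro t a1 a2 a3 a4 a5
    rw [r_word]; exact fix_kw5 R a1 a2 a3 a4 a5 _
  have h6 := hr v h1 h2 h3 h4 h5
  have hfix : Fix4 R v := ⟨h3, h4, h5, h6⟩
  have hvT : v ∈ TT R := (mem_TT R).2 ⟨h1, h2⟩
  have hrho : ∀ t ∈ TT R, R grho t ∈ TT R := fun t ht => TT_of R c2 (ee_rho R) ht
  -- a vector of `TT` independent of `v`
  have span2 : ∀ w ∈ TT R, (∀ c : F, w ≠ c • v) → ∀ t ∈ TT R, ∃ a b : F, t = a • v + b • w := by
    intro w hw hne t ht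
    have hli : LinearIndependent F ![(⟨v, hvT⟩ : TT R), ⟨w, hw⟩] := by
      rw [LinearIndependent.pair_iff]
      intro a b hab
      have hab' : a • v + b • w = 0 := congrArg Subtype.val hab
      have hb : b = 0 := by
        by_contra hb
        apply hne (-(b⁻¹ * a))
        have : w = b⁻¹ • (b • w) := by rw [inv_smul_smul₀ hb]
        rw [this, eq_neg_of_add_eq_zero_right hab', smul_neg, smul_smul, neg_smul]
      rw [hb, zero_smul, add_zero] at hab'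
      exact ⟨(smul_eq_zero.1 hab').resolve_right hv0, hb⟩
    have h7 := hli.span_eq_top_of_card_eq_finrank (by rw [hT2]; rfl)
    have hz : (⟨t, ht⟩ : TT R) ∈ Submodule.span F (Set.range ![(⟨v, hvT⟩ : TT R), ⟨w, hw⟩]) := by rw [h7]; trivial
    rw [Matrix.range_cons, Matrix.range_cons, Matrix.range_empty, Set.union_empty, Set.singleton_union,
      Submodule.mem_span_pair] at hz
    obtain ⟨a, b, h8⟩ := hz
    exact ⟨a, b, (congrArg Subtype.val h8).symm⟩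
  have top_ne : ∀ U : Submodule F V, U = ⊤ → finrank F U ≤ 2 → False := by
    rintro U rfl h7
    rw [finrank_top, hd] at h7
    omega
  -- `ge2 v = v`
  have he2 : R ge2 v = v := by
    by_contra hne
    have f1 : R gh1 (R ge2 v) = R ge2 v := by rw [rel R h1e2, fix_kw5 R h1 h2 h3 h4 h5]
    have f2 : R gh2 (R ge2 v) = R ge2 v := by rw [rel R h2e2, fix_kw5 R h1 h2 h3 h4 h5]
    have f3 : R gi2 (R ge2 v) = R ge2 v := by rw [rel R i2e2', fix_kw5 R h1 h2 h3 h4 h5]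
    have f4 : R gi3 (R ge2 v) = R ge2 v := by rw [rel R i3e2', fix_kw5 R h1 h2 h3 h4 h5]
    have f5 : R gs (R ge2 v) = R ge2 v := by rw [rel R se2', fix_kw5 R h1 h2 h3 h4 h5]
    have f6 := hr _ f1 f2 f3 f4 f5
    have hw : R ge2 v ∈ TT R := (mem_TT R).2 ⟨f1, f2⟩
    have hne' : ∀ c : F, R ge2 v ≠ c • v := by
      intro c hc
      have h8 := e2_v R v
      rw [hc, map_smul, hc, smul_smul] at h8
      have h9 : (c * c - 1) • v = 0 := by rw [sub_smul, h8, one_smul, sub_self]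
      have h10 := (smul_eq_zero.1 h9).resolve_right hv0
      have h11 : (c - 1) * (c - 1) = 0 := by linear_combination h10 - (c - 1) * c2
      have h12 : c = 1 := sub_eq_zero.1 (mul_self_eq_zero.1 h11)
      rw [h12, one_smul] at hc
      exact hne hc
    have sp := span2 _ hw hne'
    have fall : ∀ g, R g v = v → R g (R ge2 v) = R ge2 v → ∀ u ∈ TT R, R g u ∈ TT R := by
      intro g g1 g2 u hu
      obtain ⟨a, b, rfl⟩ := sp u hu
      rw [map_add, map_smul, map_smul, g1, g2]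
      exact hu
    rcases top_of_mw R hirr (fall _ h3 f3) (fall _ h4 f4) (fall _ h5 f5) (fall _ h6 f6) hrho with h7 | h7
    · rw [h7, finrank_bot] at hT2; omega
    · exact top_ne _ h7 (by rw [hT2])
  have hneg : R ge2 v = -v := by rw [he2]; exact (neg_self c2 v).symm
  have sym : ∀ i j : Fin 12, i ≠ j → Wv R v j i = Wv R v i j := by
    intro i j hij
    obtain ⟨g, g1, g2⟩ := exists_rep hij
    have a1 := Wv_act hfix g 7 10 (by decide)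
    have a2 := Wv_act hfix g 10 7 (by decide)
    have a3 := Wv_act hfix ge2 7 10 (by decide)
    rw [g1, g2, Wv_base] at a1
    rw [g1, g2] at a2
    rw [pm_e2.1, pm_e2.2.2.2, Wv_base, he2] at a3
    rw [← a2, ← a3, a1]
  set w := R grho v with hw
  have hwT : w ∈ TT R := hrho v hvT
  have hwne : ∀ c : F, w ≠ c • v := by
    intro c hc
    have st : ∀ g, R g v ∈ Submodule.span F {v} → ∀ u ∈ Submodule.span F {v}, R g u ∈ Submodule.span F {v} := by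
      intro g hg u hu
      obtain ⟨a, rfl⟩ := Submodule.mem_span_singleton.1 hu
      rw [map_smul]
      exact Submodule.smul_mem _ _ hg
    have self : v ∈ Submodule.span F {v} := Submodule.mem_span_singleton_self v
    rcases top_of_mw R hirr (U := Submodule.span F {v}) (st _ (by rw [h3]; exact self)) (st _ (by rw [h4]; exact self))
      (st _ (by rw [h5]; exact self)) (st _ (by rw [h6]; exact self))
      (st _ (by rw [← hw, hc]; exact Submodule.smul_mem _ _ self)) with h7 | h7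
    · rw [h7, Submodule.mem_bot] at self
      exact hv0 self
    · refine top_ne _ h7 ?_
      rw [finrank_span_singleton hv0]; norm_num
  obtain ⟨a, b, hab⟩ := span2 w hwT hwne (R grho w) (hrho w hwT)
  have uniq : ∀ c d : F, c • v + d • w = 0 → c = 0 ∧ d = 0 := by
    intro c d hcd
    have hd0 : d = 0 := by
      by_contra hb
      apply hwne (-(d⁻¹ * c))
      have : w = d⁻¹ • (d • w) := by rw [inv_smul_smul₀ hb]
      rw [this, eq_neg_of_add_eq_zero_right hcd, smul_neg, smul_smul, neg_smul]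
    rw [hd0, zero_smul, add_zero] at hcd
    exact ⟨(smul_eq_zero.1 hcd).resolve_right hv0, hd0⟩
  have hs1v : R gs1 v = v := by rw [s1_word, rmul, fix_kw5 R h1 h2 h3 h4 h5, he2]
  have hs1w : R gs1 w = a • v + b • w := by
    rw [hw, rel3 R s1rho, hs1v, ← hw, hab]
  have q1 : (a + b * a) • v + (b * b - 1) • w = 0 := by
    have h7 : R gs1 (R gs1 w) = w := by rw [← rmul, s1s1, rone]
    rw [hs1w, map_add, map_smul, map_smul, hs1v, hs1w, smul_add, smul_smul, smul_smul] at h7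
    rw [add_smul, sub_smul, one_smul]
    nth_rewrite 2 [← h7]
    abel
  have q2 : (b * a - 1) • v + (a + b * b) • w = 0 := by
    have h7 : R grho (R grho w) = v := by rw [hw, ← rmul, ← rmul, rhorhorho, rone]
    rw [hab, map_add, map_smul, map_smul, ← hw, hab, smul_add, smul_smul, smul_smul] at h7
    rw [sub_smul, one_smul, add_smul]
    nth_rewrite 2 [← h7]
    abel
  obtain ⟨-, q3⟩ := uniq _ _ q1
  obtain ⟨q4, -⟩ := uniq _ _ q2
  have hb1 : b = 1 := by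
    have h11 : (b - 1) * (b - 1) = 0 := by linear_combination q3 - (b - 1) * c2
    exact sub_eq_zero.1 (mul_self_eq_zero.1 h11)
  have ha1 : a = 1 := by rw [hb1, one_mul] at q4; exact sub_eq_zero.1 q4
  rw [ha1, hb1, one_smul, one_smul] at hab
  -- the cocycle relation
  have w1 : Wv R v 10 8 = w := by
    have := Wv_act hfix grho 7 10 (by decide)
    rw [pm_rho.1, pm_rho.2.1, Wv_base] at this
    rw [← this]
  have w2 : Wv R v 8 7 = v + w := by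
    have := Wv_act hfix grho 10 8 (by decide)
    rw [pm_rho.2.1, pm_rho.2.2, w1, hab] at this
    rw [← this]
  have hbase : Wv R v 7 8 + Wv R v 8 10 = v := by
    rw [sym 8 7 (by decide), w2, sym 10 8 (by decide), w1, add_assoc, dbl c2, add_zero]
  refine ⟨_, fam_of hfix hv0 hneg fun c hc7 hc10 => ?_⟩
  obtain ⟨d, e, d7, d10, e7, e10, hcd, hce, hde⟩ := exists_others c hc7 hc10
  obtain ⟨g, gv, g7, g10, g8, g9⟩ := exists_mv hfix hcd hc7 hc10 d7 d10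
  have h7 := congrArg (R g) hbase
  rw [gv, map_add, Wv_act hfix _ 7 8 (by decide), Wv_act hfix _ 8 10 (by decide), g7, g8, g10] at h7
  exact h7

end Cfsg.Agent.H36.M12

private theorem dce_0acbf65b808f : _root_.True := by
  try have : _root_.True := by simp only [_root_.Cfsg.Agent.H36.M12.rs.congr_simp]
  try have : _root_.True := by simp only [_root_.Cfsg.Agent.H36.M12.yy.eq_1]
  exact _root_.True.intro
end
end
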